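import Groth.Agent.AlgGrpLib.GeneratedSubgroup
import Groth.Agent.CubeLib.GlobalSec
import Groth.Agent.SGA3cLib.GeomConn
import Mathlib.AlgebraicGeometry.Geometrically.Connected

/-! The closed subgroup generated by a geometrically reduced scheme, without finiteness assumptions. -/

set_option autoImplicit false
set_option linter.style.haveILetI false
set_option backward.isDefEq.respectTransparency.types false

universe u

open CategoryTheory CategoryTheory.Limits MonoidalCategory CartesianMonoidalCategory MonObj GrpObj AlgebraicGeometry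

noncomputable section

namespace Groth.Agent.SGA3Word26.Gen

open AlgGrpLib AlgGrpLib.Generated

variable {k : Type u} [Field k]

local notation "𝕊" => Spec (CommRingCat.of k)

/-- The closure of the set of products is a geometrically reduced subgroup. -/
theorem exists_generated {G X : Over (Spec (CommRingCat.of k))} [GrpObj G] [GeometricallyReduced X.hom] (φ : X ⟶ G)
    (hinv : Set.range (φ ≫ ι[G]).left.base ⊆ Set.range φ.left.base) :
    ∃ (H : Over (Spec (CommRingCat.of k))) (_ : GrpObj H) (i : H ⟶ G), IsMonHom i ∧ IsClosedImmersion i.left ∧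
      GeometricallyReduced H.hom ∧ IsReduced H.left ∧ Set.range i.left.base = closure (productPoints φ) ∧
      ∃ φ' : X ⟶ H, φ' ≫ i = φ := by
  let C : TopologicalSpace.Closeds G.left := ⟨closure (productPoints φ), isClosed_closure⟩
  let I := Scheme.IdealSheafData.vanishingIdeal C
  let H : Over (Spec (CommRingCat.of k)) := Over.mk (I.subschemeι ≫ G.hom)
  let i : H ⟶ G := Over.homMk I.subschemeι rfl
  haveI hci : IsClosedImmersion i.left := inferInstanceAs (IsClosedImmersion I.subschemeι)
  have hrange : Set.range i.left.base = closure (productPoints φ) := by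
    change Set.range I.subschemeι = _
    rw [Scheme.IdealSheafData.range_subschemeι]
    rfl
  haveI hred : IsReduced H.left := (Props12.isReduced_subscheme_vanishingIdeal C : IsReduced I.subscheme)
  haveI : Mono i.left := inferInstance
  haveI : Mono i := Over.mono_of_mono_left i
  have hfac : ∀ {T : Over (Spec (CommRingCat.of k))} [IsReduced T.left] (f : T ⟶ G), Set.range f.left.base ⊆ closure (productPoints φ) →
      ∃ f' : T ⟶ H, f' ≫ i = f := by
    intro T _ f hf
    obtain ⟨g, hg⟩ := Groth.Agent.RedSepLib.exists_lift_of_range_subset f.left i.left (hrange ▸ hf)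
    exact ⟨Over.homMk g (by rw [← Over.w i, ← Category.assoc, hg, Over.w f]), Over.OverMorphism.ext hg⟩
  haveI hgrp := geometricallyReduced_pow (X := X)
  have hredof : ∀ (T : Over (Spec (CommRingCat.of k))) [GeometricallyReduced T.hom], IsReduced T.left := fun T _ =>
    haveI : Flat T.hom := CubeLib.flat_of_field _
    GeometricallyReduced.isReduced_of_flat_of_isLocallyNoetherian T.hom
  have hn : ∀ n, ∃ p : Pow X n ⟶ H, p ≫ i = powProd φ n := fun n => by
    haveI := hredof (Pow X n)
    refine hfac _ ?_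
    rw [productPoints_eq]
    exact (Set.subset_iUnion (fun n => Set.range (powProd φ n).left) n).trans subset_closure
  choose p hp using hn
  have hdense : Dense (⋃ n, Set.range (p n).left) := by
    intro x
    rw [i.left.isClosedEmbedding.isInducing.closure_eq_preimage_closure_image, Set.mem_preimage]
    refine closure_mono ?_ (hrange.le ⟨x, rfl⟩)
    rw [productPoints_eq]
    refine Set.iUnion_subset fun n => ?_
    rintro _ ⟨t, rfl⟩
    exact ⟨(p n).left t, Set.mem_iUnion.2 ⟨n, t, rfl⟩, by rw [← hp n]; rfl⟩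
  haveI hgr : GeometricallyReduced H.hom := geometricallyReduced_of_dense_maps (fun n => Pow X n) p hdense
  haveI : IsReduced (H ⊗ H).left := Groth.Agent.FBaseLib.isReduced_pullback H.hom H.hom
  haveI : IsReduced (𝟙_ (Over (Spec (CommRingCat.of k)))).left := inferInstanceAs (IsReduced (Spec (CommRingCat.of k)))
  have hone : ∃ e : 𝟙_ (Over (Spec (CommRingCat.of k))) ⟶ H, e ≫ i = 1 := hfac _ (by
    rintro _ ⟨t, rfl⟩
    exact subset_closure ⟨_, [], t, rfl⟩)
  have hinv' : ∃ v : H ⟶ H, v ≫ i = i⁻¹ := hfac _ (by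
    refine range_subset_of_dense _ hdense isClosed_closure ?_
    intro y hy
    obtain ⟨n, t, rfl⟩ := Set.mem_iUnion.1 hy
    obtain ⟨l, hl⟩ := exists_list φ n
    obtain ⟨T', e, l', he, hl'⟩ := exists_inv φ hinv l
    obtain ⟨t', rfl⟩ := e.left.surjective t
    refine subset_closure ⟨T', l', t', ?_⟩
    rw [hl', hl, ← hp n, ← GrpObj.comp_inv]
    rfl)
  have hmul : ∃ m : H ⊗ H ⟶ H, m ≫ i = (fst H H ≫ i) * (snd H H ≫ i) := hfac _ (by
    have hopen1 : IsOpenMap (fst H H).left := (pullback.fst H.hom H.hom).isOpenMap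
    refine range_subset_of_dense _ (hdense.preimage hopen1) isClosed_closure ?_
    intro z hz
    obtain ⟨n, a, ha⟩ := Set.mem_iUnion.1 (show (fst H H).left z ∈ ⋃ n, Set.range (p n).left from hz)
    obtain ⟨r, rfl⟩ := mem_range_whiskerRight (p n) H z a ha.symm
    have hopen2 : IsOpenMap (snd (Pow X n) H).left := (pullback.snd (Pow X n).hom H.hom).isOpenMap
    have := range_subset_of_dense ((p n ▷ H) ≫ ((fst H H ≫ i) * (snd H H ≫ i))).left
      (hdense.preimage hopen2) (isClosed_closure (s := productPoints φ)) (fun z hz => by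
        obtain ⟨m, b, hb⟩ := Set.mem_iUnion.1 (show (snd (Pow X n) H).left z ∈ ⋃ m, Set.range (p m).left from hz)
        obtain ⟨s, rfl⟩ := mem_range_whiskerLeft (p m) (Pow X n) z b hb.symm
        refine subset_closure (range_mul_subset φ n m ⟨s, ?_⟩)
        have e : Pow X n ◁ p m ≫ p n ▷ H ≫ ((fst H H ≫ i) * (snd H H ≫ i)) =
            (fst (Pow X n) (Pow X m) ≫ powProd φ n) * (snd (Pow X n) (Pow X m) ≫ powProd φ m) := by
          simp only [MonObj.comp_mul, whiskerLeft_fst_assoc, whiskerLeft_snd_assoc, whiskerRight_fst_assoc,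
            whiskerRight_snd_assoc, hp]
        rw [← e]
        rfl)
    exact this ⟨r, rfl⟩)
  obtain ⟨inst, hi⟩ := exists_grpObj_of_mono i hone hmul hinv'
  haveI := hredof X
  refine ⟨H, inst, i, hi, hci, hgr, hred, hrange, hfac φ ?_⟩
  rintro _ ⟨x, rfl⟩
  exact subset_closure ⟨X, [𝟙 X], x, by simp⟩

/-- Two copies of a scheme. -/
def dbl (X : Over 𝕊) : Over 𝕊 := Over.mk (coprod.desc X.hom X.hom)

def dblL (X : Over 𝕊) : X ⟶ dbl X := Over.homMk coprod.inl (coprod.inl_desc _ _)

def dblR (X : Over 𝕊) : X ⟶ dbl X := Over.homMk coprod.inr (coprod.inr_desc _ _)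

theorem mem_range_dbl {X : Over 𝕊} (z : (dbl X).left) : z ∈ Set.range (dblL X).left ∨ z ∈ Set.range (dblR X).left :=
  (Set.eq_univ_iff_forall.mp (isCompl_range_inl_inr X.left X.left).sup_eq_top) z

/-- The morphism and its inverse. -/
def sym {G X : Over 𝕊} [GrpObj G] (f : X ⟶ G) : dbl X ⟶ G :=
  Over.homMk (coprod.desc f.left (f⁻¹ : X ⟶ G).left) (by
    apply coprod.hom_ext
    · simp [dbl]
    · simp [dbl])

theorem dblL_sym {G X : Over 𝕊} [GrpObj G] (f : X ⟶ G) : dblL X ≫ sym f = f :=
  Over.OverMorphism.ext (coprod.inl_desc _ _)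

theorem dblR_sym {G X : Over 𝕊} [GrpObj G] (f : X ⟶ G) : dblR X ≫ sym f = f⁻¹ :=
  Over.OverMorphism.ext (coprod.inr_desc _ _)

theorem range_sym_inv {G X : Over 𝕊} [GrpObj G] (f : X ⟶ G) :
    Set.range (sym f ≫ ι[G]).left.base ⊆ Set.range (sym f).left.base := by
  rintro _ ⟨z, rfl⟩
  rcases mem_range_dbl z with ⟨x, rfl⟩ | ⟨x, rfl⟩
  · refine ⟨(dblR X).left x, ?_⟩
    have e : dblL X ≫ sym f ≫ ι[G] = dblR X ≫ sym f := by
      rw [← Category.assoc, dblL_sym, dblR_sym, Hom.inv_def]
    exact (congrArg (fun q => q.left x) e).symm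
  · refine ⟨(dblL X).left x, ?_⟩
    have e : dblR X ≫ sym f ≫ ι[G] = dblL X ≫ sym f := by
      rw [← Category.assoc, dblR_sym, dblL_sym, ← Hom.inv_def, _root_.inv_inv]
    exact (congrArg (fun q => q.left x) e).symm

instance geometricallyReduced_dbl (X : Over 𝕊) [GeometricallyReduced X.hom] : GeometricallyReduced (dbl X).hom := by
  refine ⟨fun K _ y Z fst' snd' hZ => ?_⟩
  suffices IsReduced (pullback (dbl X).hom y) from isReduced_of_isOpenImmersion hZ.isoPullback.hom
  refine @IsReduced.of_openCover _ (Scheme.Pullback.openCoverOfLeft (coprodOpenCover.{u, 0} X.left X.left) (dbl X).hom y) fun i => ?_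
  show IsReduced (pullback ((coprodOpenCover.{u, 0} X.left X.left).f i ≫ (dbl X).hom) y)
  rcases i with _ | _
  · show IsReduced (pullback (coprod.inl ≫ coprod.desc X.hom X.hom) y)
    rw [coprod.inl_desc]
    exact GeometricallyReduced.geometrically_isReduced _ _ _ (IsPullback.of_hasPullback _ _)
  · show IsReduced (pullback (coprod.inr ≫ coprod.desc X.hom X.hom) y)
    rw [coprod.inr_desc]
    exact GeometricallyReduced.geometrically_isReduced _ _ _ (IsPullback.of_hasPullback _ _)

/-- The smallest closed subgroup through which a morphism factors. -/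
theorem exists_smallest {G X : Over 𝕊} [GrpObj G] [GeometricallyReduced X.hom] (f : X ⟶ G) :
    ∃ (H : Over 𝕊) (_ : GrpObj H) (i : H ⟶ G), IsMonHom i ∧ IsClosedImmersion i.left ∧
      GeometricallyReduced H.hom ∧ IsReduced H.left ∧ Set.range i.left.base = closure (productPoints (sym f)) ∧
      (∃ f' : X ⟶ H, f' ≫ i = f) ∧
      ∀ (Γ' : Over 𝕊) (_ : GrpObj Γ') (i' : Γ' ⟶ G), IsMonHom i' → IsClosedImmersion i'.left →
        (∃ f'' : X ⟶ Γ', f'' ≫ i' = f) → ∃ j : H ⟶ Γ', j ≫ i' = i := by
  obtain ⟨H, gH, i, hi, hci, hgr, hred, hrange, p, hp⟩ := exists_generated (sym f) (range_sym_inv f)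
  refine ⟨H, gH, i, hi, hci, hgr, hred, hrange, ⟨dblL X ≫ p, by rw [Category.assoc, hp, dblL_sym]⟩, ?_⟩
  intro Γ' _ i' hi' hci' ⟨f'', hf''⟩
  let s : dbl X ⟶ Γ' := sym f''
  have hs : s ≫ i' = sym f := by
    refine Over.OverMorphism.ext ?_
    apply coprod.hom_ext
    · exact congrArg CommaMorphism.left (show dblL X ≫ sym f'' ≫ i' = dblL X ≫ sym f by
        rw [← Category.assoc, dblL_sym, dblL_sym, hf''])
    · exact congrArg CommaMorphism.left (show dblR X ≫ sym f'' ≫ i' = dblR X ≫ sym f by
        rw [← Category.assoc, dblR_sym, dblR_sym, GrpObj.inv_comp, hf''])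
  have hsub : Set.range i.left.base ⊆ Set.range i'.left.base := by
    rw [hrange]
    refine closure_minimal ?_ i'.left.isClosedEmbedding.isClosed_range
    rintro _ ⟨T, l, t, rfl⟩
    have : ∃ q : T ⟶ Γ', q ≫ i' = (l.map fun x => x ≫ sym f).prod := by
      induction l with
      | nil => exact ⟨1, by rw [MonObj.one_comp]; rfl⟩
      | cons a l ih =>
        obtain ⟨q, hq⟩ := ih
        exact ⟨(a ≫ s) * q, by rw [MonObj.mul_comp, hq, Category.assoc, hs]; simp⟩
    obtain ⟨q, hq⟩ := this
    exact ⟨q.left t, by rw [← hq]; rfl⟩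
  obtain ⟨j, hj⟩ := RedSepLib.exists_lift_of_range_subset i.left i'.left hsub
  exact ⟨Over.homMk j (by rw [← Over.w i', ← Category.assoc, hj, Over.w i]), Over.OverMorphism.ext hj⟩

theorem exists_preconnected_join {G X : Over 𝕊} [GrpObj G] [ConnectedSpace X.left] (f : X ⟶ G)
    (x : 𝟙_ (Over 𝕊) ⟶ X) (hx : x ≫ f = 1) (e : G.left) (he : e ∈ Set.range (η[G]).left.base) :
    ∀ n, ∀ p ∈ Set.range (powProd (sym f) n).left.base, ∃ s : Set G.left,
      s ⊆ productPoints (sym f) ∧ e ∈ s ∧ p ∈ s ∧ _root_.IsPreconnected s := by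
  intro n
  induction n with
  | zero =>
    rintro _ ⟨t, rfl⟩
    obtain ⟨t', rfl⟩ := he
    have h1 : (powProd (sym f) 0).left t = (η[G]).left t := by
      show (1 : 𝟙_ (Over 𝕊) ⟶ G).left t = _
      rw [Hom.one_def, show toUnit (𝟙_ (Over 𝕊)) = 𝟙 _ from Subsingleton.elim _ _, Category.id_comp]
    have : Subsingleton ↥(𝟙_ (Over 𝕊)).left := inferInstanceAs (Subsingleton (PrimeSpectrum k))
    rw [h1]
    obtain rfl : t' = t := @Subsingleton.elim _ this t' t
    refine ⟨{(η[G]).left t'}, ?_, rfl, rfl, isPreconnected_singleton⟩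
    rw [Set.singleton_subset_iff, productPoints_eq]
    refine Set.mem_iUnion.2 ⟨0, t', ?_⟩
    show (1 : 𝟙_ (Over 𝕊) ⟶ G).left t' = _
    rw [Hom.one_def, show toUnit (𝟙_ (Over 𝕊)) = 𝟙 _ from Subsingleton.elim _ _, Category.id_comp]
  | succ n ih =>
    rintro _ ⟨z, rfl⟩
    have key : ∀ (φ : X ⟶ G) (d : X ⟶ dbl X), x ≫ φ = 1 → d ≫ sym f = φ → ∀ z : (X ⊗ Pow (dbl X) n).left,
        ∃ s : Set G.left, s ⊆ productPoints (sym f) ∧ e ∈ s ∧
          (powProd (sym f) (n + 1)).left ((d ▷ Pow (dbl X) n).left z) ∈ s ∧ _root_.IsPreconnected s := by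
      intro φ d hφ hd z
      let P := Pow (dbl X) n
      let m : X ⊗ P ⟶ G := (fst X P ≫ φ) * (snd X P ≫ powProd (sym f) n)
      have hm : (d ▷ P) ≫ powProd (sym f) (n + 1) = m := by
        show (d ▷ P) ≫ ((fst (dbl X) P ≫ sym f) * (snd (dbl X) P ≫ powProd (sym f) n)) = _
        rw [MonObj.comp_mul, whiskerRight_fst_assoc, whiskerRight_snd_assoc, hd]
      haveI : GeometricallyConnected X.hom := by
        have := SGA3cLib.geometricallyConnected_of_rational_point k X.hom (𝟙 X.left) x.left (Over.w x) (by simp)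
        simpa using this
      haveI : GeometricallyConnected (snd X P).left := inferInstanceAs (GeometricallyConnected (pullback.snd X.hom P.hom))
      have hF := (snd X P).left.isConnected_preimage_singleton ((snd X P).left z)
      let σ : P ⟶ X ⊗ P := lift (toUnit P ≫ x) (𝟙 P)
      have hσ : σ ≫ m = powProd (sym f) n := by
        rw [MonObj.comp_mul, lift_fst_assoc, lift_snd_assoc, Category.assoc, hφ, MonObj.comp_one, Category.id_comp, _root_.one_mul]
      let p := (snd X P).left z
      have hq : σ.left p ∈ (snd X P).left.base ⁻¹' {p} := by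
        show (σ ≫ snd X P).left p = p
        rw [lift_snd]; rfl
      have hc : _root_.IsPreconnected (m.left.base '' ((snd X P).left.base ⁻¹' {p})) :=
        hF.isPreconnected.image _ m.left.continuous.continuousOn
      obtain ⟨s, hs, hes, hms, hsc⟩ := ih (m.left (σ.left p)) ⟨p, by rw [← hσ]; rfl⟩
      refine ⟨s ∪ m.left.base '' ((snd X P).left.base ⁻¹' {p}), Set.union_subset hs ?_, Or.inl hes, Or.inr ?_,
        hsc.union _ hms ⟨σ.left p, hq, rfl⟩ hc⟩
      · rintro _ ⟨y, -, rfl⟩
        rw [productPoints_eq]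
        exact Set.mem_iUnion.2 ⟨n + 1, (d ▷ P).left y, by rw [← hm]; rfl⟩
      · exact ⟨z, rfl, by rw [← hm]; rfl⟩
    rcases mem_range_dbl ((fst (dbl X) (Pow (dbl X) n)).left z) with ⟨a, ha⟩ | ⟨a, ha⟩
    · obtain ⟨w, rfl⟩ := mem_range_whiskerRight (dblL X) _ z a ha.symm
      exact key f (dblL X) hx (dblL_sym f) w
    · obtain ⟨w, rfl⟩ := mem_range_whiskerRight (dblR X) _ z a ha.symm
      exact key f⁻¹ (dblR X) (by rw [GrpObj.comp_inv, hx, inv_one]) (dblR_sym f) w

end Groth.Agent.SGA3Word26.Gen
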