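import Groth.Agent.SGA3Word26.CommBound
import Groth.Agent.SGA3UnitSec.KernelPair
import Groth.Agent.GrpLim26.Normal
import Mathlib.AlgebraicGeometry.Morphisms.UniversallyOpen

/-! Word images under base change; bounded commutator words over any field. -/

set_option autoImplicit false
set_option linter.style.haveILetI false
set_option backward.isDefEq.respectTransparency.types false

universe u

open CategoryTheory CategoryTheory.Limits MonoidalCategory CartesianMonoidalCategory MonObj GrpObj AlgebraicGeometry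
open Functor.LaxMonoidal Functor.OplaxMonoidal

noncomputable section

namespace Groth.Agent.SGA3Word26.WordsBC

open Comm

section Iso

variable {S : Scheme.{u}} {G H X X' : Over S} [GrpObj G] [GrpObj H]

theorem wMap_cons (f : X ⟶ G) (b : Bool) (l : List Bool) :
    wMap f (b :: l) = (if b then fst X (wObj X l) ≫ f else (fst X (wObj X l) ≫ f)⁻¹) *
      (snd X (wObj X l) ≫ wMap f l) := rfl

theorem wMap_comp_hom (f : X ⟶ G) (u : G ⟶ H) [IsMonHom u] : ∀ l : List Bool, wMap f l ≫ u = wMap (f ≫ u) l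
  | [] => MonObj.one_comp u
  | b :: l => by
    rw [wMap_cons, wMap_cons]
    show ((_ * _ : X ⊗ wObj X l ⟶ G)) ≫ u = ((_ * _ : X ⊗ wObj X l ⟶ H))
    rw [MonObj.mul_comp, Category.assoc, wMap_comp_hom f u l]
    cases b <;> simp [GrpObj.inv_comp]

theorem exists_map (f : X ⟶ G) (φ : X' ⟶ X) : ∀ l : List Bool,
    ∃ e : wObj X' l ⟶ wObj X l, e ≫ wMap f l = wMap (φ ≫ f) l
  | [] => ⟨𝟙 (𝟙_ (Over S)), Category.id_comp (wMap f [])⟩
  | b :: l => by
    obtain ⟨e, he⟩ := exists_map f φ l
    refine ⟨(lift (fst X' (wObj X' l) ≫ φ) (snd X' (wObj X' l) ≫ e) : X' ⊗ wObj X' l ⟶ X ⊗ wObj X l), ?_⟩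
    rw [wMap_cons, wMap_cons]
    show (lift (fst X' (wObj X' l) ≫ φ) (snd X' (wObj X' l) ≫ e) : X' ⊗ wObj X' l ⟶ X ⊗ wObj X l) ≫ (_ * _) =
      ((_ * _ : X' ⊗ wObj X' l ⟶ G))
    rw [MonObj.comp_mul, lift_snd_assoc, ← he, Category.assoc]
    cases b <;> simp [GrpObj.comp_inv]

theorem range_wMap_comp_le (f : X ⟶ G) (φ : X' ⟶ X) (l : List Bool) :
    Set.range (wMap (φ ≫ f) l).left.base ⊆ Set.range (wMap f l).left.base := by
  obtain ⟨e, he⟩ := exists_map f φ l
  rw [← he]
  rintro _ ⟨z, rfl⟩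
  exact ⟨e.left.base z, rfl⟩

theorem range_wMap_iso (f : X ⟶ G) (φ : X' ⟶ X) [IsIso φ] (l : List Bool) :
    Set.range (wMap (φ ≫ f) l).left.base = Set.range (wMap f l).left.base := by
  refine (range_wMap_comp_le f φ l).antisymm ?_
  have := range_wMap_comp_le (φ ≫ f) (inv φ) l
  rwa [IsIso.inv_hom_id_assoc] at this

theorem range_wMap_le_of_factor (f : X ⟶ G) (f' : X ⟶ H) (i : H ⟶ G) [IsMonHom i] (h : f' ≫ i = f) (l : List Bool) :
    Set.range (wMap f l).left.base ⊆ Set.range i.left.base := by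
  rw [← h, ← wMap_comp_hom]
  rintro _ ⟨z, rfl⟩
  exact ⟨(wMap f' l).left.base z, rfl⟩

theorem wordsUpTo_le_of_factor (f : X ⟶ G) (f' : X ⟶ H) (i : H ⟶ G) [IsMonHom i] (h : f' ≫ i = f) (N : ℕ) :
    wordsUpTo f N ⊆ Set.range i.left.base :=
  Set.iUnion₂_subset fun l _ => range_wMap_le_of_factor f f' i h l

end Iso

section BaseChange

variable {S S' : Scheme.{u}} (p : S' ⟶ S) {G X : Over S} [GrpObj G] (f : X ⟶ G)

theorem map_inv_hom {Y : Over S} (x : Y ⟶ G) : (Over.pullback p).map x⁻¹ = ((Over.pullback p).map x)⁻¹ := by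
  refine eq_inv_of_mul_eq_one_left ?_
  rw [← (Over.pullback p).map_mul, inv_mul_cancel]
  exact map_one (Over.pullback p).homMonoidHom

theorem exists_bc_iso : ∀ l : List Bool, ∃ e : wObj (Red.bc p X) l ⟶ Red.bc p (wObj X l),
    IsIso e ∧ e ≫ (Over.pullback p).map (wMap f l) = wMap (H := Red.bc p G) ((Over.pullback p).map f) l
  | [] => by
    refine ⟨Functor.LaxMonoidal.ε (Over.pullback p), inferInstanceAs (IsIso (Functor.LaxMonoidal.ε (Over.pullback p))), ?_⟩
    exact (congrArg (Functor.LaxMonoidal.ε (Over.pullback p) ≫ ·) (map_one (Over.pullback p).homMonoidHom)).trans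
      (MonObj.comp_one _)
  | b :: l => by
    let F := Over.pullback p
    obtain ⟨e, he, hw⟩ := exists_bc_iso l
    haveI := he
    refine ⟨((𝟙 (Red.bc p X)) ⊗ₘ e) ≫ Functor.LaxMonoidal.μ F X (wObj X l),
      inferInstanceAs (IsIso (((𝟙 (F.obj X)) ⊗ₘ e) ≫ Functor.LaxMonoidal.μ F X (wObj X l))), ?_⟩
    rw [wMap_cons, wMap_cons]
    show (((𝟙 (F.obj X)) ⊗ₘ e) ≫ Functor.LaxMonoidal.μ F X (wObj X l)) ≫ F.map (_ * _) = _
    rw [F.map_mul, MonObj.comp_mul, Category.assoc, Category.assoc, F.map_comp, Functor.Monoidal.μ_snd_assoc,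
      tensorHom_snd_assoc]
    erw [hw]
    congr 1
    cases b
    · simp only [Bool.false_eq_true, if_false]
      rw [map_inv_hom, F.map_comp, GrpObj.comp_inv, GrpObj.comp_inv]
      congr 1
      rw [Functor.Monoidal.μ_fst_assoc, tensorHom_fst_assoc, Category.id_comp]
    · simp only [if_true]
      rw [F.map_comp, Functor.Monoidal.μ_fst_assoc, tensorHom_fst_assoc, Category.id_comp]

theorem range_wMap_bc (l : List Bool) :
    Set.range (wMap (H := Red.bc p G) ((Over.pullback p).map f) l).left.base =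
      (pullback.fst G.hom p) ⁻¹' Set.range (wMap f l).left.base := by
  obtain ⟨e, he, hw⟩ := exists_bc_iso p f l
  haveI := he
  rw [← hw]
  have h1 : Set.range (e ≫ (Over.pullback p).map (wMap f l)).left.base =
      Set.range ((Over.pullback p).map (wMap f l)).left.base := by
    haveI : IsIso e.left := inferInstanceAs (IsIso ((Over.forget _).map e))
    rw [Over.comp_left, Scheme.Hom.comp_base, TopCat.coe_comp, Set.range_comp, Set.range_eq_univ.2 e.left.surjective,
      Set.image_univ]
  rw [h1]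
  have sq := SGA3UnitSec.isPullback_map_left p (wMap f l)
  rw [← sq.isoPullback_hom_snd, Scheme.Hom.comp_base, TopCat.coe_comp, Set.range_comp,
    Set.range_eq_univ.2 sq.isoPullback.hom.surjective, Set.image_univ, Scheme.Pullback.range_snd]

theorem wordsUpTo_bc (N : ℕ) :
    wordsUpTo (G := Red.bc p G) ((Over.pullback p).map f) N = (pullback.fst G.hom p) ⁻¹' wordsUpTo f N := by
  simp only [wordsUpTo, Set.preimage_iUnion]
  exact Set.iUnion₂_congr fun l _ => range_wMap_bc p f l

end BaseChange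

section Comm

variable {S S' : Scheme.{u}} (p : S' ⟶ S) {G A B : Over S} [GrpObj G] (a : A ⟶ G) (b : B ⟶ G)

theorem μ_map_cMap : Functor.LaxMonoidal.μ (Over.pullback p) A B ≫ (Over.pullback p).map (cMap a b) =
    cMap (G := Red.bc p G) (A := Red.bc p A) (B := Red.bc p B) ((Over.pullback p).map a) ((Over.pullback p).map b) := by
  let F := Over.pullback p
  show Functor.LaxMonoidal.μ F A B ≫ F.map _ = _
  simp only [cMap, F.map_mul, F, map_inv_hom, Functor.map_comp, MonObj.comp_mul, GrpObj.comp_inv,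
    Functor.Monoidal.μ_fst_assoc, Functor.Monoidal.μ_snd_assoc]

theorem range_wMap_cMap_bc (l : List Bool) :
    Set.range (wMap (cMap (G := Red.bc p G) (A := Red.bc p A) (B := Red.bc p B) ((Over.pullback p).map a)
      ((Over.pullback p).map b)) l).left.base = (pullback.fst G.hom p) ⁻¹' Set.range (wMap (cMap a b) l).left.base := by
  rw [← μ_map_cMap, range_wMap_iso, range_wMap_bc]

theorem wordsUpTo_cMap_bc (N : ℕ) :
    wordsUpTo (cMap (G := Red.bc p G) (A := Red.bc p A) (B := Red.bc p B) ((Over.pullback p).map a)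
      ((Over.pullback p).map b)) N = (pullback.fst G.hom p) ⁻¹' wordsUpTo (cMap a b) N := by
  simp only [wordsUpTo, Set.preimage_iUnion]
  exact Set.iUnion₂_congr fun l _ => range_wMap_cMap_bc p a b l

end Comm

/-- Commutator words of bounded length over any field. -/
theorem exists_bound {K : Type u} [Field K]
    (G A B : Over (Spec (CommRingCat.of K))) [GrpObj G] [GrpObj A] [GrpObj B] [LocallyOfFiniteType G.hom]
    (a : A ⟶ G) [IsMonHom a] [IsClosedImmersion a.left] (b : B ⟶ G) [IsMonHom b] [IsClosedImmersion b.left]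
    [GeometricallyReduced A.hom] [GeometricallyReduced B.hom] [QuasiCompact B.hom]
    (hcase : (AlgGrp.IsNormalHom a ∧ AlgGrp.IsNormalHom b ∧ QuasiCompact A.hom) ∨
      (ConnectedSpace A.left ∧ GeometricallyConnected A.hom)) :
    ∃ N : ℕ, closure (⋃ l : List Bool, Set.range (wMap (cMap a b) l).left.base) ⊆ wordsUpTo (cMap a b) N := by
  let Ω := AlgebraicClosure K
  let q : Spec (CommRingCat.of Ω) ⟶ Spec (CommRingCat.of K) := Spec.map (CommRingCat.ofHom (algebraMap K Ω))
  let F := Over.pullback q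
  haveI : LocallyOfFiniteType (Red.bc q G).hom := inferInstanceAs (LocallyOfFiniteType (pullback.snd G.hom q))
  haveI : IsClosedImmersion (F.map a).left :=
    MorphismProperty.of_isPullback (P := @IsClosedImmersion) (SGA3UnitSec.isPullback_map_left q a) ‹_›
  haveI : IsClosedImmersion (F.map b).left :=
    MorphismProperty.of_isPullback (P := @IsClosedImmersion) (SGA3UnitSec.isPullback_map_left q b) ‹_›
  haveI : GeometricallyReduced (Red.bc q A).hom := MorphismProperty.pullback_snd (P := @GeometricallyReduced) _ _ ‹_›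
  haveI : GeometricallyReduced (Red.bc q B).hom := MorphismProperty.pullback_snd (P := @GeometricallyReduced) _ _ ‹_›
  haveI : QuasiCompact (Red.bc q B).hom := MorphismProperty.pullback_snd (P := @QuasiCompact) _ _ ‹_›
  haveI : IsMonHom (F.map a : Red.bc q A ⟶ Red.bc q G) := inferInstance
  haveI : IsMonHom (F.map b : Red.bc q B ⟶ Red.bc q G) := inferInstance
  obtain ⟨N, hN⟩ := exists_bound_algClosed Ω (Red.bc q G) (Red.bc q A) (Red.bc q B) (F.map a) (F.map b) (by
    rcases hcase with ⟨ha, hb, hq⟩ | ⟨-, h⟩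
    · refine Or.inl ⟨?_, ?_, MorphismProperty.pullback_snd (P := @QuasiCompact) _ _ hq⟩
      · refine (GrpLim26.normal_bc_iff q a).2 ?_
        obtain ⟨z, hz⟩ := (GrpLim26.normal_iff a).1 ha
        exact ⟨F.map z, by rw [← hz]; exact (F.map_comp z a).symm⟩
      · refine (GrpLim26.normal_bc_iff q b).2 ?_
        obtain ⟨z, hz⟩ := (GrpLim26.normal_iff b).1 hb
        exact ⟨F.map z, by rw [← hz]; exact (F.map_comp z b).symm⟩
    · haveI := h
      exact Or.inr (inferInstanceAs (ConnectedSpace ↥(pullback A.hom q))))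
  refine ⟨N, fun g hg => ?_⟩
  obtain ⟨g', rfl⟩ := (pullback.fst G.hom q).surjective g
  haveI : Subsingleton ↥(Spec (CommRingCat.of K)) := inferInstanceAs (Subsingleton (PrimeSpectrum K))
  haveI : UniversallyOpen q := inferInstance
  have hopen : IsOpenMap (pullback.fst G.hom q) := (pullback.fst G.hom q).isOpenMap
  have h1 : g' ∈ closure ((pullback.fst G.hom q) ⁻¹' ⋃ l : List Bool, Set.range (wMap (cMap a b) l).left.base) :=
    hopen.preimage_closure_subset_closure_preimage hg
  rw [Set.preimage_iUnion] at h1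
  simp only [← range_wMap_cMap_bc] at h1
  have h2 := hN h1
  rw [wordsUpTo_cMap_bc] at h2
  exact h2

end Groth.Agent.SGA3Word26.WordsBC
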