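import Groth.Agent.SGA3Word26.Generated
import Groth.Agent.SGA3Word26.WordsBC
import Groth.Agent.SGA3cLib.SubgroupClosed
import Groth.Agent.EGA43.Separating.DominantBC
import Groth.Agent.SGA3UnitSec.KernelPair
import Mathlib.AlgebraicGeometry.Morphisms.UniversallyOpen

/-! The generated subgroup stays minimal among immersed subgroups after any base change. -/

set_option autoImplicit false
set_option linter.style.haveILetI false
set_option backward.isDefEq.respectTransparency.types false

universe u

open CategoryTheory CategoryTheory.Limits MonoidalCategory CartesianMonoidalCategory MonObj GrpObj AlgebraicGeometry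

noncomputable section

namespace Groth.Agent.SGA3Word26.Gen

open AlgGrpLib AlgGrpLib.Generated

variable {k : Type u} [Field k]

local notation "𝕊" => Spec (CommRingCat.of k)

theorem exists_word_of_list {G X : Over 𝕊} [GrpObj G] (f : X ⟶ G) (T : Over 𝕊) [Subsingleton ↥T.left] (pt : ↥T.left) :
    ∀ L : List (T ⟶ dbl X), ∃ (w : List Bool) (v : T ⟶ wObj X w), v ≫ wMap f w = (L.map fun a => a ≫ sym f).prod
  | [] => ⟨[], toUnit T, MonObj.comp_one _⟩
  | a :: L => by
    obtain ⟨w, v, hv⟩ := exists_word_of_list f T pt L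
    rcases mem_range_dbl (a.left.base pt) with hm | hm
    · haveI : IsOpenImmersion (dblL X).left := inferInstanceAs (IsOpenImmersion (coprod.inl : X.left ⟶ X.left ⨿ X.left))
      have hr : Set.range a.left.base ⊆ Set.range (dblL X).left.base := by
        rintro _ ⟨t, rfl⟩
        rwa [Subsingleton.elim t pt]
      let x : T ⟶ X := Over.homMk (IsOpenImmersion.lift (dblL X).left a.left hr) (by
        rw [← Over.w (dblL X), IsOpenImmersion.lift_fac_assoc, Over.w a])
      have hx : x ≫ dblL X = a := Over.OverMorphism.ext (IsOpenImmersion.lift_fac _ _ hr)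
      refine ⟨true :: w, (lift x v : T ⟶ X ⊗ wObj X w), ?_⟩
      rw [List.map_cons, List.prod_cons, ← hv, ← hx, Category.assoc, dblL_sym, WordsBC.wMap_cons]
      show (lift x v : T ⟶ X ⊗ wObj X w) ≫ (_ * _) = _
      rw [MonObj.comp_mul, lift_snd_assoc]
      simp
    · haveI : IsOpenImmersion (dblR X).left := inferInstanceAs (IsOpenImmersion (coprod.inr : X.left ⟶ X.left ⨿ X.left))
      have hr : Set.range a.left.base ⊆ Set.range (dblR X).left.base := by
        rintro _ ⟨t, rfl⟩
        rwa [Subsingleton.elim t pt]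
      let x : T ⟶ X := Over.homMk (IsOpenImmersion.lift (dblR X).left a.left hr) (by
        rw [← Over.w (dblR X), IsOpenImmersion.lift_fac_assoc, Over.w a])
      have hx : x ≫ dblR X = a := Over.OverMorphism.ext (IsOpenImmersion.lift_fac _ _ hr)
      refine ⟨false :: w, (lift x v : T ⟶ X ⊗ wObj X w), ?_⟩
      rw [List.map_cons, List.prod_cons, ← hv, ← hx, Category.assoc, dblR_sym, WordsBC.wMap_cons]
      show (lift x v : T ⟶ X ⊗ wObj X w) ≫ (_ * _) = _
      rw [MonObj.comp_mul, lift_snd_assoc]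
      simp [GrpObj.comp_inv]

theorem productPoints_sym_subset {G X : Over 𝕊} [GrpObj G] (f : X ⟶ G) :
    productPoints (sym f) ⊆ ⋃ w : List Bool, Set.range (wMap f w).left.base := by
  rintro _ ⟨T, l, t, rfl⟩
  let κ := T.left.residueField t
  let T' : Over 𝕊 := Over.mk (T.left.fromSpecResidueField t ≫ T.hom)
  let incl : T' ⟶ T := Over.homMk (T.left.fromSpecResidueField t) rfl
  haveI : Subsingleton ↥T'.left := inferInstanceAs (Subsingleton ↥(Spec κ))
  let pt : ↥T'.left := (IsLocalRing.closedPoint κ : ↥(Spec κ))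
  obtain ⟨w, v, hv⟩ := exists_word_of_list f T' pt (l.map fun a => incl ≫ a)
  have hprod : ((l.map fun a => incl ≫ a).map fun a => a ≫ sym f).prod = incl ≫ (l.map fun a => a ≫ sym f).prod := by
    clear hv
    induction l with
    | nil => simp [MonObj.comp_one]
    | cons a l ih => rw [List.map_cons, List.map_cons, List.prod_cons, List.map_cons, List.prod_cons, ih, MonObj.comp_mul, Category.assoc]
  rw [hprod] at hv
  refine Set.mem_iUnion.2 ⟨w, v.left.base pt, ?_⟩
  have h := congrArg (fun q : T' ⟶ G => q.left.base pt) hv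
  simp only [Over.comp_left, Scheme.Hom.comp_apply] at h
  refine h.trans (congrArg (((l.map fun a => a ≫ sym f).prod).left.base) ?_)
  exact Scheme.fromSpecResidueField_apply t pt

/-- The smallest closed subgroup is reduced and the words are dense in it. -/
theorem reduced_and_dense {G X Γ : Over 𝕊} [GrpObj G] [GrpObj Γ] [GeometricallyReduced X.hom] (f : X ⟶ G)
    (i : Γ ⟶ G) [IsMonHom i] [IsClosedImmersion i.left] (f' : X ⟶ Γ) (hf : f' ≫ i = f)
    (hmin : ∀ (Γ' : Over 𝕊) (_ : GrpObj Γ') (i' : Γ' ⟶ G), IsMonHom i' → IsClosedImmersion i'.left →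
      (∃ f'' : X ⟶ Γ', f'' ≫ i' = f) → ∃ j : Γ ⟶ Γ', j ≫ i' = i) :
    IsReduced Γ.left ∧ Dense (⋃ w : List Bool, Set.range (wMap f' w).left.base) ∧
      Set.range i.left.base ⊆ closure (⋃ w : List Bool, Set.range (wMap f w).left.base) := by
  obtain ⟨H, gH, iH, hiH, hciH, -, hredH, hrange, hfH, hminH⟩ := exists_smallest f
  obtain ⟨j, hj⟩ := hmin H gH iH hiH hciH hfH
  obtain ⟨j', hj'⟩ := hminH Γ inferInstance i inferInstance inferInstance ⟨f', hf⟩
  haveI : Mono i := Over.mono_of_mono_left i
  haveI : Mono iH := Over.mono_of_mono_left iH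
  let ej : Γ ≅ H := ⟨j, j', by rw [← cancel_mono i, Category.assoc, hj', hj, Category.id_comp],
    by rw [← cancel_mono iH, Category.assoc, hj, hj', Category.id_comp]⟩
  haveI : IsIso j := ej.isIso_hom
  haveI : IsIso j.left := inferInstanceAs (IsIso ((Over.forget _).map j))
  haveI := hredH
  have hsub : Set.range i.left.base ⊆ closure (⋃ w : List Bool, Set.range (wMap f w).left.base) := by
    refine (Set.Subset.trans ?_ hrange.le).trans (closure_mono (productPoints_sym_subset f))
    rintro _ ⟨z, rfl⟩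
    exact ⟨j.left z, by rw [← hj]; rfl⟩
  refine ⟨isReduced_of_isOpenImmersion j.left, fun x => ?_, hsub⟩
  rw [i.left.isClosedEmbedding.isInducing.closure_eq_preimage_closure_image, Set.mem_preimage]
  refine closure_mono ?_ (hsub ⟨x, rfl⟩)
  refine Set.iUnion_subset fun w => ?_
  rintro _ ⟨z, rfl⟩
  refine ⟨(wMap f' w).left.base z, Set.mem_iUnion.2 ⟨w, z, rfl⟩, ?_⟩
  rw [← hf, ← WordsBC.wMap_comp_hom]
  rfl

/-- The base change lies set-theoretically in every immersed subgroup receiving the morphism. -/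
theorem range_bc_subset {G X Γ : Over 𝕊} [GrpObj G] (f : X ⟶ G) (i : Γ ⟶ G)
    (hi : Set.range i.left.base ⊆ closure (⋃ w : List Bool, Set.range (wMap f w).left.base))
    {S : Scheme.{u}} (σ : S ⟶ 𝕊) {Γ' : Over S} [GrpObj Γ'] (i' : Γ' ⟶ Red.bc σ G) [IsMonHom i']
    [IsImmersion i'.left] (f'' : Red.bc σ X ⟶ Γ') (hf'' : f'' ≫ i' = (Over.pullback σ).map f) :
    Set.range ((Over.pullback σ).map i).left.base ⊆ Set.range i'.left.base := by
  rintro _ ⟨z, rfl⟩
  let g := ((Over.pullback σ).map i).left.base z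
  let s : S := (Red.bc σ G).hom g
  let ιs := S.fromSpecResidueField s
  let F' := Over.pullback ιs
  haveI : IsImmersion (F'.map i').left :=
    MorphismProperty.of_isPullback (P := @IsImmersion) (SGA3UnitSec.isPullback_map_left ιs i') ‹_›
  haveI : IsMonHom (F'.map i' : Red.bc ιs Γ' ⟶ Red.bc ιs (Red.bc σ G)) := inferInstance
  have hclosed := SGA3cLib.isClosed_range_of_isImmersion (k := S.residueField s)
    (G := Red.bc ιs (Red.bc σ G)) (H := Red.bc ιs Γ') (F'.map i')
  let p' := pullback.fst (Red.bc σ G).hom ιs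
  obtain ⟨g', hg'⟩ : g ∈ Set.range p'.base := by
    rw [Scheme.Pullback.range_fst, Set.mem_preimage, Scheme.range_fromSpecResidueField]
    rfl
  let π := p' ≫ pullback.fst G.hom σ
  haveI : UniversallyOpen π :=
    MorphismProperty.of_isPullback (P := @UniversallyOpen)
      ((IsPullback.of_hasPullback (Red.bc σ G).hom ιs).paste_horiz (IsPullback.of_hasPullback G.hom σ)).flip
      (inferInstance : UniversallyOpen (ιs ≫ σ))
  have hπ : π g' ∈ closure (⋃ w : List Bool, Set.range (wMap f w).left.base) := by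
    refine hi ?_
    have h1 := congrArg (fun m => m z) (SGA3UnitSec.isPullback_map_left σ i).w
    simp only [Scheme.Hom.comp_apply] at h1
    show π g' ∈ _
    rw [Scheme.Hom.comp_apply, hg']
    first
      | exact ⟨_, h1.symm⟩
      | exact ⟨_, h1⟩
  have hmem : g' ∈ Set.range (F'.map i').left.base := by
    refine closure_minimal ?_ hclosed (π.isOpenMap.preimage_closure_subset_closure_preimage hπ)
    rw [Set.preimage_iUnion]
    refine Set.iUnion_subset fun w => ?_
    have h2 : π ⁻¹' Set.range (wMap f w).left.base =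
        Set.range (wMap (H := Red.bc ιs (Red.bc σ G)) (F'.map ((Over.pullback σ).map f)) w).left.base := by
      rw [WordsBC.range_wMap_bc ιs ((Over.pullback σ).map f) w, WordsBC.range_wMap_bc σ f w]
      rfl
    rw [h2]
    exact WordsBC.range_wMap_le_of_factor (F'.map ((Over.pullback σ).map f)) (F'.map f'') (F'.map i')
      (by rw [← F'.map_comp, hf'']) w
  obtain ⟨y, hy⟩ := hmem
  refine ⟨pullback.fst Γ'.hom ιs y, ?_⟩
  have h3 := congrArg (fun m => m y) (SGA3UnitSec.isPullback_map_left ιs i').w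
  simp only [Scheme.Hom.comp_apply] at h3
  show _ = g
  rw [← hg', ← hy]
  first
    | exact h3.symm
    | exact h3

/-- A morphism factors when its pull-back of a monomorphism is an isomorphism. -/
theorem exists_factor_of_isIso_fst {S : Scheme.{u}} {A B C : Over S} (a : A ⟶ C) (b : B ⟶ C)
    [IsIso (pullback.fst a.left b.left)] : ∃ j : A ⟶ B, j ≫ b = a := by
  let q := asIso (pullback.fst a.left b.left)
  have hq : (q.inv ≫ pullback.snd a.left b.left) ≫ b.left = a.left := by
    rw [Category.assoc, ← pullback.condition, ← Category.assoc, show pullback.fst a.left b.left = q.hom from rfl,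
      q.inv_hom_id, Category.id_comp]
  exact ⟨Over.homMk (q.inv ≫ pullback.snd a.left b.left) (by rw [← Over.w b, ← Category.assoc, hq, Over.w a]),
    Over.OverMorphism.ext hq⟩

theorem exists_bcFam_factor {S : Scheme.{u}} (σ : S ⟶ 𝕊) {Γ : Over 𝕊} {ι₀ : Type u} {h : ι₀ → Over 𝕊}
    (m : ∀ l, h l ⟶ Γ) (l : ι₀) : ∃ c : pullback ((m l).left ≫ Γ.hom) σ ⟶ (Red.bc σ (h l)).left,
      c ≫ ((Over.pullback σ).map (m l)).left = EGA43.Separating.bcFam Γ.hom σ (fun l => (m l).left) l := by
  refine ⟨pullback.lift (pullback.fst ((m l).left ≫ Γ.hom) σ) (pullback.snd ((m l).left ≫ Γ.hom) σ) ?_, ?_⟩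
  · rw [← Over.w (m l)]; exact pullback.condition
  · apply pullback.hom_ext
    · simp only [Category.assoc, EGA43.Separating.bcFam, pullback.lift_fst, Over.pullback_map_left, Over.homMk_left]
      exact pullback.lift_fst_assoc _ _ _ _
    · simp only [Category.assoc, EGA43.Separating.bcFam, pullback.lift_snd, Over.pullback_map_left]
      exact (Category.comp_id _).symm

theorem main {G X Γ : Over 𝕊} [GrpObj G] [GrpObj Γ] [GeometricallyReduced X.hom] (f : X ⟶ G)
    (i : Γ ⟶ G) [IsMonHom i] [IsClosedImmersion i.left] (f' : X ⟶ Γ) (hf : f' ≫ i = f)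
    (hmin : ∀ (Γ' : Over 𝕊) (_ : GrpObj Γ') (i' : Γ' ⟶ G), IsMonHom i' → IsClosedImmersion i'.left →
      (∃ f'' : X ⟶ Γ', f'' ≫ i' = f) → ∃ j : Γ ⟶ Γ', j ≫ i' = i)
    {S : Scheme.{u}} (σ : S ⟶ 𝕊) {Γ' : Over S} [GrpObj Γ'] (i' : Γ' ⟶ Red.bc σ G) [IsMonHom i']
    [IsImmersion i'.left] (f'' : Red.bc σ X ⟶ Γ') (hf'' : f'' ≫ i' = (Over.pullback σ).map f) :
    ∃ j : Red.bc σ Γ ⟶ Γ', j ≫ i' = (Over.pullback σ).map i := by
  obtain ⟨hred, hdense, hsub⟩ := reduced_and_dense f i f' hf hmin
  haveI := hred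
  let F := Over.pullback σ
  let h : ULift.{u} (List Bool) → Over 𝕊 := fun l => wObj X l.down
  let m : ∀ l, h l ⟶ Γ := fun l => wMap f' l.down
  have hsd : EGA43.SchDom (fun l => (m l).left) := by
    refine EGA43.schDom_of_dense (hdense.mono ?_)
    exact Set.iUnion_subset fun w => Set.subset_iUnion_of_subset ⟨w⟩ subset_rfl
  have hbc := EGA43.Separating.schDom_bcFam_of_field Γ.hom σ (fun l => (m l).left) hsd
  let q := pullback.fst (F.map i).left i'.left
  haveI : IsImmersion q := inferInstanceAs (IsImmersion (pullback.fst (F.map i).left i'.left))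
  have hq : Set.range q.base = Set.univ := by
    rw [Scheme.Pullback.range_fst, Set.eq_univ_iff_forall]
    exact fun z => range_bc_subset f i hsub σ i' f'' hf'' ⟨z, rfl⟩
  haveI : IsClosedImmersion q := IsClosedImmersion.of_isPreimmersion q (hq ▸ isClosed_univ)
  haveI : IsIso q := by
    refine hbc.isIso_of_factor q fun l => ?_
    obtain ⟨e, he, hw⟩ := WordsBC.exists_bc_iso σ f l.down
    haveI := he
    have e1 : F.map (m l) ≫ F.map i = (inv e ≫ wMap f'' l.down) ≫ i' := by
      rw [← F.map_comp, WordsBC.wMap_comp_hom, hf, Category.assoc, WordsBC.wMap_comp_hom, hf'',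
        eq_comm, IsIso.inv_comp_eq]
      exact hw.symm
    obtain ⟨c, hc⟩ := exists_bcFam_factor σ (fun l => m l) l
    refine ⟨c ≫ pullback.lift (F.map (m l)).left (inv e ≫ wMap f'' l.down).left (congrArg CommaMorphism.left e1), ?_⟩
    rw [Category.assoc, show pullback.lift _ _ _ ≫ q = (F.map (m l)).left from pullback.lift_fst _ _ _, hc]
  exact exists_factor_of_isIso_fst (F.map i) i'

end Groth.Agent.SGA3Word26.Gen
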