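import Groth.Agent.SGA3Word26.FiniteIndex
import Groth.Agent.BaerComm26.Basic
import Groth.Agent.AlgGrpLib.ConnComp
import Groth.Prelude.Def_AlgGrp

/-! Points of the commutator subgroup scheme over an algebraically closed field. -/

set_option autoImplicit false
set_option linter.style.haveILetI false
set_option backward.isDefEq.respectTransparency.types false

universe u

open CategoryTheory CategoryTheory.Limits MonoidalCategory CartesianMonoidalCategory MonObj GrpObj AlgebraicGeometry
open scoped CategoryTheory.Obj commutatorElement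

noncomputable section

namespace Groth.Agent.SGA3Word26.Comm

open Bounded

variable (k : Type u) [Field k] [IsAlgClosed k]

/-- Composition with a homomorphism, on rational points. -/
def ptHom {A G : Over (Spec (CommRingCat.of k))} [GrpObj A] [GrpObj G] (a : A ⟶ G) [IsMonHom a] :
    (𝟙_ (Over (Spec (CommRingCat.of k))) ⟶ A) →* (𝟙_ (Over (Spec (CommRingCat.of k))) ⟶ G) :=
  MonoidHom.mk' (fun x => x ≫ a) fun x y => MonObj.mul_comp x y a

theorem subset_component {A : Over (Spec (CommRingCat.of k))} [GrpObj A] {S : Set A.left}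
    (hS : _root_.IsPreconnected S) (he : AlgGrpLib.ConnComp.e₀ A ∈ S) :
    S ⊆ irreducibleComponent (AlgGrpLib.ConnComp.e₀ A) :=
  AlgGrpLib.ConnComp.connectedComponent_eq A ▸ hS.subset_connectedComponent he

theorem e₀_eq {A : Over (Spec (CommRingCat.of k))} [GrpObj A] :
    (1 : 𝟙_ (Over (Spec (CommRingCat.of k))) ⟶ A).left.base (IsLocalRing.closedPoint k) = AlgGrpLib.ConnComp.e₀ A := by
  rw [Hom.one_def, toUnit_unique (toUnit _) (𝟙 _), Category.id_comp]

/-- The rational points of the identity component. -/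
def neutral (A : Over (Spec (CommRingCat.of k))) [GrpObj A] :
    Subgroup (𝟙_ (Over (Spec (CommRingCat.of k))) ⟶ A) where
  carrier := {x | x.left.base (IsLocalRing.closedPoint k) ∈ irreducibleComponent (AlgGrpLib.ConnComp.e₀ A)}
  one_mem' := by
    rw [Set.mem_ofPred_eq, e₀_eq]; exact mem_irreducibleComponent
  mul_mem' {x y} hx hy := by
    rw [Set.mem_ofPred_eq, Hom.mul_def]
    refine AlgGrpLib.ConnComp.mul_mem A ((lift x y).left.base (IsLocalRing.closedPoint k)) ?_ ?_
    · have : (lift x y ≫ fst A A).left.base (IsLocalRing.closedPoint k) = x.left.base (IsLocalRing.closedPoint k) := by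
        rw [lift_fst]
      exact this.symm ▸ hx
    · have : (lift x y ≫ snd A A).left.base (IsLocalRing.closedPoint k) = y.left.base (IsLocalRing.closedPoint k) := by
        rw [lift_snd]
      exact this.symm ▸ hy
  inv_mem' {x} hx := by
    rw [Set.mem_ofPred_eq, Hom.inv_def]
    refine subset_component k (isIrreducible_irreducibleComponent.isPreirreducible.isPreconnected.image
      (ι[A] : A ⟶ A).left.base ((ι[A] : A ⟶ A).left.continuous.continuousOn)) ?_ ⟨_, hx, rfl⟩
    refine ⟨_, mem_irreducibleComponent, ?_⟩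
    have e : (1 : 𝟙_ (Over (Spec (CommRingCat.of k))) ⟶ A) ≫ ι[A] = 1 := by rw [← Hom.inv_def, inv_one]
    rw [← e₀_eq k]
    exact congrArg (fun q => q.left.base (IsLocalRing.closedPoint k)) e

theorem ext_pt {Z : Over (Spec (CommRingCat.of k))} [LocallyOfFiniteType Z.hom]
    (a b : 𝟙_ (Over (Spec (CommRingCat.of k))) ⟶ Z)
    (h : a.left.base (IsLocalRing.closedPoint k) = b.left.base (IsLocalRing.closedPoint k)) : a = b :=
  Over.OverMorphism.ext (ext_of_apply_closedPoint_eq Z.hom (Over.w a) (Over.w b) h)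

theorem exists_lift_pt {Z W : Over (Spec (CommRingCat.of k))} (j : W ⟶ Z) [IsImmersion j.left]
    (a : 𝟙_ (Over (Spec (CommRingCat.of k))) ⟶ Z)
    (h : a.left.base (IsLocalRing.closedPoint k) ∈ Set.range j.left.base) :
    ∃ q, q ≫ j = a := by
  haveI : IsReduced (𝟙_ (Over (Spec (CommRingCat.of k)))).left := inferInstanceAs (IsReduced (Spec (CommRingCat.of k)))
  haveI : Subsingleton ↥(𝟙_ (Over (Spec (CommRingCat.of k)))).left := inferInstanceAs (Subsingleton (PrimeSpectrum k))
  obtain ⟨q, hq⟩ := RedSepLib.exists_lift_of_range_subset a.left j.left (by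
    rintro _ ⟨t, rfl⟩
    rwa [Subsingleton.elim t (IsLocalRing.closedPoint k)])
  exact ⟨Over.homMk q (by rw [← Over.w j, ← Category.assoc, hq, Over.w]), Over.OverMorphism.ext hq⟩

/-- A closed subgroup whose points are products of values, containing the values on the irreducible
sets through a point with value one. -/
theorem exists_closed_words {G X : Over (Spec (CommRingCat.of k))} [GrpObj G] [LocallyOfFiniteType G.hom]
    [LocallyOfFiniteType X.hom] [QuasiCompact X.hom] (f : X ⟶ G) :
    ∃ (H : Over (Spec (CommRingCat.of k))) (_ : GrpObj H) (i : H ⟶ G), IsMonHom i ∧ IsClosedImmersion i.left ∧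
      (∀ h : 𝟙_ (Over (Spec (CommRingCat.of k))) ⟶ H,
        h ≫ i ∈ Subgroup.closure (Set.range fun x : 𝟙_ (Over (Spec (CommRingCat.of k))) ⟶ X => x ≫ f)) ∧
      ∀ S : Set X.left, IsIrreducible S → ∀ x b : 𝟙_ (Over (Spec (CommRingCat.of k))) ⟶ X,
        x.left.base (IsLocalRing.closedPoint k) ∈ S → b.left.base (IsLocalRing.closedPoint k) ∈ S → b ≫ f = 1 →
          ∃ q, q ≫ i = x ≫ f := by
  haveI : CompactSpace ↥X.left := QuasiCompact.compactSpace_of_compactSpace X.hom
  haveI : IsLocallyNoetherian X.left := LocallyOfFiniteType.isLocallyNoetherian X.hom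
  haveI : IsNoetherian X.left := {}
  haveI : Subsingleton ↥(𝟙_ (Over (Spec (CommRingCat.of k)))).left := inferInstanceAs (Subsingleton (PrimeSpectrum k))
  have hfin : (irreducibleComponents X.left).Finite :=
    TopologicalSpace.NoetherianSpace.finite_irreducibleComponents
  obtain ⟨Y, y₀, l, hYi, hYr, hYt, hYq, hy₀, hY⟩ := exists_source f hfin.toFinset.toList (fun C hC => by
    rw [Finset.mem_toList, Set.Finite.mem_toFinset] at hC
    exact ⟨hC.1, isClosed_of_mem_irreducibleComponents C hC⟩)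
  haveI := FBaseLib.geometricallyIrreducible_of_isAlgClosed Y.hom
  let Z : Over (Spec (CommRingCat.of k)) := Y ⊗ Y
  haveI : IrreducibleSpace Z.left := AlgGrpLib.OpenOrbit.irreducibleSpace_tensor Y Y
  haveI : GeometricallyReduced Z.hom := FBaseLib.geometricallyReduced_pullback Y.hom Y.hom
  haveI : LocallyOfFiniteType Z.hom := inferInstanceAs (LocallyOfFiniteType (pullback.fst Y.hom Y.hom ≫ Y.hom))
  haveI : QuasiCompact Z.hom := inferInstanceAs (QuasiCompact (pullback.fst Y.hom Y.hom ≫ Y.hom))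
  let ψ := wprod f l
  let φ : Z ⟶ G := (fst Y Y ≫ ψ) * (snd Y Y ≫ ψ)⁻¹
  have hinv : Set.range (φ ≫ ι[G]).left.base ⊆ Set.range φ.left.base := by
    rintro _ ⟨z, rfl⟩
    refine ⟨(lift (snd Y Y) (fst Y Y) : Z ⟶ Z).left.base z, ?_⟩
    have e : (lift (snd Y Y) (fst Y Y) : Z ⟶ Z) ≫ φ = φ ≫ ι[G] := by
      rw [← Hom.inv_def, MonObj.comp_mul, GrpObj.comp_inv, lift_fst_assoc, lift_snd_assoc, _root_.mul_inv_rev,
        _root_.inv_inv]
    exact congrArg (fun q => q.left.base z) e
  obtain ⟨H, gH, i, hi, hci, -, -, ⟨φ', hφ'⟩, M, p, hp, -, hpl⟩ :=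
    AlgGrpLib.Generated.exists_generated_stab φ hinv (lift y₀ y₀) (by
      rw [MonObj.comp_mul, GrpObj.comp_inv, lift_fst_assoc, lift_snd_assoc, hy₀, inv_one, _root_.mul_one])
  haveI := hi
  refine ⟨H, gH, i, hi, hci, fun h => ?_, fun S hS x b hx hb hb1 => ?_⟩
  · obtain ⟨v, rfl⟩ := hpl h
    rw [Category.assoc, hp]
    refine (Subgroup.closure_le _).2 ?_ (AlgGrpLib.Generated.powProd_mem_closure φ M v)
    have hψ : ∀ r : 𝟙_ (Over (Spec (CommRingCat.of k))) ⟶ Y, r ≫ ψ ∈
        Subgroup.closure (Set.range fun x : 𝟙_ (Over (Spec (CommRingCat.of k))) ⟶ X => x ≫ f) := fun r => by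
      rw [← wprod_comp f r l]
      refine list_prod_mem fun y hy => ?_
      obtain ⟨⟨e, a⟩, -, rfl⟩ := List.mem_map.1 hy
      cases e
      · exact inv_mem (Subgroup.subset_closure ⟨a, rfl⟩)
      · exact Subgroup.subset_closure ⟨a, rfl⟩
    rintro _ ⟨z, rfl⟩
    show z ≫ φ ∈ _
    rw [MonObj.comp_mul, GrpObj.comp_inv, ← Category.assoc, ← Category.assoc]
    exact mul_mem (hψ _) (inv_mem (hψ _))
  · obtain ⟨C, hC, hSC⟩ : ∃ C ∈ irreducibleComponents X.left, S ⊆ C := by
      obtain ⟨m, h1, h2⟩ := exists_preirreducible _ hS.isPreirreducible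
      exact ⟨m, ⟨⟨hS.nonempty.mono h2.1, h1⟩, fun Z hZ hle => (h2.2 Z hZ.isPreirreducible hle).le⟩, h2.1⟩
    have hr : ∀ y : 𝟙_ (Over (Spec (CommRingCat.of k))) ⟶ X, y.left.base (IsLocalRing.closedPoint k) ∈ S →
        Set.range y.left.base ⊆ C := by
      rintro y hy _ ⟨t, rfl⟩
      rw [Subsingleton.elim t (IsLocalRing.closedPoint k)]
      exact hSC hy
    obtain ⟨r, hr'⟩ := hY C (by rw [Finset.mem_toList, Set.Finite.mem_toFinset]; exact hC) x b (hr x hx) (hr b hb)
    refine ⟨lift r y₀ ≫ φ', ?_⟩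
    rw [Category.assoc, hφ', MonObj.comp_mul, GrpObj.comp_inv, lift_fst_assoc, lift_snd_assoc, hy₀, inv_one,
      _root_.mul_one, hr', hb1, inv_one, _root_.mul_one]

theorem main
    (G A B : Over (Spec (CommRingCat.of k))) [GrpObj G] [GrpObj A] [GrpObj B] [LocallyOfFiniteType G.hom]
    (a : A ⟶ G) [IsMonHom a] [IsClosedImmersion a.left] (b : B ⟶ G) [IsMonHom b] [IsClosedImmersion b.left]
    [GeometricallyReduced A.hom] [GeometricallyReduced B.hom] [QuasiCompact B.hom]
    (hcase : (AlgGrp.IsNormalHom a ∧ AlgGrp.IsNormalHom b ∧ QuasiCompact A.hom) ∨ ConnectedSpace A.left)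
    (Γ : Over (Spec (CommRingCat.of k))) [GrpObj Γ] (i : Γ ⟶ G) [IsMonHom i] [IsClosedImmersion i.left]
    (hf : ∃ f' : A ⊗ B ⟶ Γ, f' ≫ i = (((fst A B) ≫ a) * ((snd A B) ≫ b) * ((fst A B) ≫ a)⁻¹ * ((snd A B) ≫ b)⁻¹))
    (hmin : ∀ (Γ' : Over (Spec (CommRingCat.of k))) (_ : GrpObj Γ') (i' : Γ' ⟶ G), IsMonHom i' → IsClosedImmersion i'.left →
        (∃ f'' : A ⊗ B ⟶ Γ', f'' ≫ i' = (((fst A B) ≫ a) * ((snd A B) ≫ b) * ((fst A B) ≫ a)⁻¹ * ((snd A B) ≫ b)⁻¹)) → ∃ j : Γ ⟶ Γ', j ≫ i' = i) :
    Set.range (fun z : 𝟙_ (Over (Spec (CommRingCat.of k))) ⟶ Γ => z ≫ i) =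
      ((⁅Subgroup.closure (Set.range (fun x : 𝟙_ (Over (Spec (CommRingCat.of k))) ⟶ A => x ≫ a)),
         Subgroup.closure (Set.range (fun y : 𝟙_ (Over (Spec (CommRingCat.of k))) ⟶ B => y ≫ b))⁆ : Subgroup (𝟙_ (Over (Spec (CommRingCat.of k))) ⟶ G)) :
        Set (𝟙_ (Over (Spec (CommRingCat.of k))) ⟶ G)) := by
  classical
  let P := 𝟙_ (Over (Spec (CommRingCat.of k)))
  let t0 : (𝟙_ (Over (Spec (CommRingCat.of k)))).left := IsLocalRing.closedPoint k
  haveI : Subsingleton ↥(𝟙_ (Over (Spec (CommRingCat.of k)))).left := inferInstanceAs (Subsingleton (PrimeSpectrum k))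
  haveI : LocallyOfFiniteType A.hom := by rw [← Over.w a]; infer_instance
  haveI : LocallyOfFiniteType B.hom := by rw [← Over.w b]; infer_instance
  haveI hAq : QuasiCompact A.hom := by
    rcases hcase with ⟨-, -, h⟩ | h
    · exact h
    · refine (quasiCompact_iff_compactSpace _).mpr ⟨?_⟩
      haveI := h
      have h1 := AlgGrpLib.ConnComp.isCompact_component A
      rwa [← AlgGrpLib.ConnComp.connectedComponent_eq, PreconnectedSpace.connectedComponent_eq_univ] at h1
  let X : Over (Spec (CommRingCat.of k)) := A ⊗ B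
  haveI : GeometricallyReduced X.hom := FBaseLib.geometricallyReduced_pullback A.hom B.hom
  haveI : LocallyOfFiniteType X.hom := inferInstanceAs (LocallyOfFiniteType (pullback.fst A.hom B.hom ≫ A.hom))
  haveI : QuasiCompact X.hom := inferInstanceAs (QuasiCompact (pullback.fst A.hom B.hom ≫ A.hom))
  let c : X ⟶ G := ((fst A B) ≫ a) * ((snd A B) ≫ b) * ((fst A B) ≫ a)⁻¹ * ((snd A B) ≫ b)⁻¹
  let M := (ptHom k a).range
  let N := (ptHom k b).range
  rw [show Subgroup.closure (Set.range (fun x : P ⟶ A => x ≫ a)) = M from Subgroup.closure_eq M,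
    show Subgroup.closure (Set.range (fun y : P ⟶ B => y ≫ b)) = N from Subgroup.closure_eq N]
  set W : Subgroup (P ⟶ G) := ⁅M, N⁆ with hW
  have hc : ∀ (x : P ⟶ A) (y : P ⟶ B), lift x y ≫ c = ⁅x ≫ a, y ≫ b⁆ := fun x y => by
    simp [c, MonObj.comp_mul, GrpObj.comp_inv, commutatorElement_def]
  have hcW : ∀ z : P ⟶ X, z ≫ c ∈ W := fun z => by
    have e : lift (z ≫ fst A B) (z ≫ snd A B) = z := by rw [← comp_lift, lift_fst_snd, Category.comp_id]
    rw [← e, hc]
    exact Subgroup.commutator_mem_commutator ⟨_, rfl⟩ ⟨_, rfl⟩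
  let M₀ := (neutral k A).map (ptHom k a)
  let N₀ := (neutral k B).map (ptHom k b)
  let K' : Subgroup (P ⟶ G) := ⁅M₀, N⁆ ⊔ ⁅M, N₀⁆
  obtain ⟨H, gH, iH, hiH, hciH, hHW, hHirr⟩ := exists_closed_words k c
  haveI := hiH
  haveI := hciH
  have hHW' : ∀ h : P ⟶ H, h ≫ iH ∈ W := fun h => (Subgroup.closure_le W).2 (by
    rintro _ ⟨z, rfl⟩; exact hcW z) (hHW h)
  have hKH : K' ≤ (ptHom k iH).range := by
    refine sup_le (Subgroup.commutator_le.2 ?_) (Subgroup.commutator_le.2 ?_)
    · rintro _ ⟨x, hx, rfl⟩ _ ⟨y, rfl⟩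
      let σ : A ⟶ X := lift (𝟙 A) (toUnit A ≫ y)
      have hS := (isIrreducible_irreducibleComponent (x := AlgGrpLib.ConnComp.e₀ A)).image σ.left.base
        σ.left.continuous.continuousOn
      have hpt : ∀ w : P ⟶ A, w ≫ σ = lift w y := fun w => by
        rw [comp_lift, Category.comp_id, ← Category.assoc, toUnit_unique (w ≫ toUnit A) (𝟙 _), Category.id_comp]
      obtain ⟨q, hq⟩ := hHirr _ hS (x ≫ σ) ((1 : P ⟶ A) ≫ σ) ⟨_, hx, rfl⟩
        ⟨_, (e₀_eq k (A := A)).symm ▸ mem_irreducibleComponent, rfl⟩ (by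
          rw [hpt, hc, MonObj.one_comp, commutatorElement_one_left])
      refine ⟨q, hq.trans ?_⟩
      rw [hpt]
      exact hc x y
    · rintro _ ⟨x, rfl⟩ _ ⟨y, hy, rfl⟩
      let σ : B ⟶ X := lift (toUnit B ≫ x) (𝟙 B)
      have hS := (isIrreducible_irreducibleComponent (x := AlgGrpLib.ConnComp.e₀ B)).image σ.left.base
        σ.left.continuous.continuousOn
      have hpt : ∀ w : P ⟶ B, w ≫ σ = lift x w := fun w => by
        rw [comp_lift, Category.comp_id, ← Category.assoc, toUnit_unique (w ≫ toUnit B) (𝟙 _), Category.id_comp]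
      obtain ⟨q, hq⟩ := hHirr _ hS (y ≫ σ) ((1 : P ⟶ B) ≫ σ) ⟨_, hy, rfl⟩
        ⟨_, (e₀_eq k (A := B)).symm ▸ mem_irreducibleComponent, rfl⟩ (by
          rw [hpt, hc, MonObj.one_comp, commutatorElement_one_right])
      refine ⟨q, hq.trans ?_⟩
      rw [hpt]
      exact hc x y
  -- finitely many cosets
  obtain ⟨F, hFW, hF⟩ : ∃ F : Finset (P ⟶ G), (∀ g ∈ F, g ∈ W) ∧ ∀ g ∈ W, ∃ r ∈ F, r⁻¹ * g ∈ K' := by
    rcases hcase with ⟨hna, hnb, -⟩ | hA
    · have hfinM : ∀ {D : Over (Spec (CommRingCat.of k))} [GrpObj D] [LocallyOfFiniteType D.hom] [QuasiCompact D.hom],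
          (neutral k D).index ≠ 0 := by
        intro D _ _ _
        haveI : CompactSpace ↥D.left := QuasiCompact.compactSpace_of_compactSpace D.hom
        haveI : IsLocallyNoetherian D.left := LocallyOfFiniteType.isLocallyNoetherian D.hom
        haveI : IsNoetherian D.left := {}
        haveI : Finite (irreducibleComponents D.left) :=
          TopologicalSpace.NoetherianSpace.finite_irreducibleComponents.to_subtype
        let q : ((P ⟶ D) ⧸ neutral k D) → irreducibleComponents D.left := fun g =>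
          ⟨irreducibleComponent (g.out.left.base t0), irreducibleComponent_mem_irreducibleComponents _⟩
        have hq : Function.Injective q := by
          intro g g' h
          have h' : irreducibleComponent (g.out.left.base t0) = irreducibleComponent (g'.out.left.base t0) :=
            congrArg Subtype.val h
          rw [← g.out_eq', ← g'.out_eq', QuotientGroup.eq]
          let L : D ⟶ D := (toUnit D ≫ g.out⁻¹) * 𝟙 D
          have hL : ∀ w : P ⟶ D, w ≫ L = g.out⁻¹ * w := fun w => by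
            rw [MonObj.comp_mul, ← Category.assoc, toUnit_unique (w ≫ toUnit D) (𝟙 _), Category.id_comp, Category.comp_id]
          refine subset_component k (isIrreducible_irreducibleComponent.isPreirreducible.isPreconnected.image
            L.left.base L.left.continuous.continuousOn) ⟨g.out.left.base t0, mem_irreducibleComponent, ?_⟩
            ⟨g'.out.left.base t0, h' ▸ mem_irreducibleComponent, ?_⟩
          · rw [← e₀_eq k]
            exact congrArg (fun q => q.left.base t0) ((hL g.out).trans (inv_mul_cancel _))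
          · exact congrArg (fun q => q.left.base t0) (hL g'.out)
        haveI : Finite ((P ⟶ D) ⧸ neutral k D) := Finite.of_injective q hq
        exact Nat.card_pos.ne'
      have hnorm : ∀ {D : Over (Spec (CommRingCat.of k))} [GrpObj D] (d : D ⟶ G) [IsMonHom d] [IsClosedImmersion d.left],
          AlgGrp.IsNormalHom d → (ptHom k d).range.Normal ∧ ((neutral k D).map (ptHom k d)).Normal := by
        intro D _ d _ _ hd
        haveI : Mono d := Over.mono_of_mono_left d
        refine ⟨⟨?_⟩, ⟨?_⟩⟩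
        · rintro _ ⟨x, rfl⟩ g
          obtain ⟨x', hx'⟩ := hd _ g x
          exact ⟨x', hx'.symm⟩
        · rintro _ ⟨x, hx, rfl⟩ g
          obtain ⟨σ, hσ⟩ := hd D (toUnit D ≫ g) (𝟙 D)
          have hσw : ∀ w : P ⟶ D, (w ≫ σ) ≫ d = g * (w ≫ d) * g⁻¹ := fun w => by
            rw [Category.assoc, ← hσ]
            simp only [MonObj.comp_mul, GrpObj.comp_inv, ← Category.assoc, toUnit_unique (w ≫ toUnit D) (𝟙 _),
              Category.id_comp, Category.comp_id]
          refine ⟨x ≫ σ, subset_component k (isIrreducible_irreducibleComponent.isPreirreducible.isPreconnected.image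
            σ.left.base σ.left.continuous.continuousOn) ⟨_, mem_irreducibleComponent, ?_⟩ ⟨_, hx, rfl⟩, hσw x⟩
          have e : (1 : P ⟶ D) ≫ σ = 1 := by
            rw [← cancel_mono d, hσw, MonObj.one_comp, _root_.mul_one, mul_inv_cancel]
          rw [← e₀_eq k]
          exact congrArg (fun q => q.left.base t0) e
      obtain ⟨hMn, hM₀n⟩ := hnorm a hna
      obtain ⟨hNn, hN₀n⟩ := hnorm b hnb
      haveI : M.Normal := hMn
      haveI : N.Normal := hNn
      haveI : M₀.Normal := hM₀n
      haveI : N₀.Normal := hN₀n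
      haveI : K'.Normal := inferInstanceAs ((⁅M₀, N⁆ ⊔ ⁅M, N₀⁆ : Subgroup (P ⟶ G)).Normal)
      let π := QuotientGroup.mk' K'
      haveI : (M.map π).Normal := Subgroup.Normal.map inferInstance π (QuotientGroup.mk'_surjective K')
      haveI : (N.map π).Normal := Subgroup.Normal.map inferInstance π (QuotientGroup.mk'_surjective K')
      have hidx : ∀ {D : Over (Spec (CommRingCat.of k))} [GrpObj D] [LocallyOfFiniteType D.hom] [QuasiCompact D.hom]
          (d : D ⟶ G) [IsMonHom d],
          (((neutral k D).map (ptHom k d)).map π).relIndex ((ptHom k d).range.map π) ≠ 0 := by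
        intro D _ _ _ d _
        rw [Subgroup.map_map, ← MonoidHom.range_comp, MonoidHom.range_eq_map]
        rw [Subgroup.relIndex_map_map, top_sup_eq, Subgroup.relIndex_top_right]
        intro h
        apply hfinM (D := D)
        exact zero_dvd_iff.1 (h ▸ Subgroup.index_dvd_of_le le_sup_left)
      have hcomm : ∀ {u v : P ⟶ G}, ⁅u, v⁆ ∈ K' → π u * π v = π v * π u := fun {u v} h => by
        have h' : π ⁅u, v⁆ = 1 := (QuotientGroup.eq_one_iff _).2 h
        rw [map_commutatorElement, commutatorElement_eq_one_iff_mul_comm] at h'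
        exact h'
      haveI := BaerComm26.finite_commutator (M.map π) (N.map π) (M₀.map π) (N₀.map π)
        (Subgroup.map_mono (Subgroup.map_le_range _ _)) (Subgroup.map_mono (Subgroup.map_le_range _ _))
        (hidx a) (hidx b)
        (by rintro _ ⟨u, hu, rfl⟩ _ ⟨v, hv, rfl⟩
            exact hcomm (Subgroup.mem_sup_left (Subgroup.commutator_mem_commutator hu hv)))
        (by rintro _ ⟨u, hu, rfl⟩ _ ⟨v, hv, rfl⟩
            exact hcomm (Subgroup.mem_sup_right (Subgroup.commutator_mem_commutator hu hv)))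
      haveI : Finite (W.map π : Subgroup _) := by rw [hW, Subgroup.map_commutator]; infer_instance
      haveI := Fintype.ofFinite (W.map π : Subgroup _)
      choose rep hrepW hrep using fun q : (W.map π : Subgroup _) => q.2
      refine ⟨Finset.univ.image rep, ?_, fun g hg => ⟨rep ⟨π g, g, hg, rfl⟩, Finset.mem_image_of_mem _ (Finset.mem_univ _), ?_⟩⟩
      · intro g hg
        obtain ⟨q, -, rfl⟩ := Finset.mem_image.1 hg
        exact hrepW q
      · exact QuotientGroup.eq.1 (hrep ⟨π g, g, hg, rfl⟩)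
    · haveI := hA
      refine ⟨{1}, by simp, fun g hg => ⟨1, Finset.mem_singleton_self 1, ?_⟩⟩
      rw [inv_one, _root_.one_mul]
      have hM₀ : M₀ = M := by
        show (neutral k A).map (ptHom k a) = (ptHom k a).range
        rw [MonoidHom.range_eq_map]
        congr 1
        refine eq_top_iff.2 fun x _ => ?_
        show x.left.base t0 ∈ irreducibleComponent (AlgGrpLib.ConnComp.e₀ A)
        rw [← AlgGrpLib.ConnComp.connectedComponent_eq, PreconnectedSpace.connectedComponent_eq_univ]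
        trivial
      exact (le_sup_left : ⁅M₀, N⁆ ≤ K') (hM₀.symm ▸ hg)
  let τ : (P ⟶ G) → (G ⟶ G) := fun r => (toUnit G ≫ r) * 𝟙 G
  have hτc : ∀ r (g : P ⟶ G), g ≫ τ r = r * g := fun r g => by
    rw [MonObj.comp_mul, ← Category.assoc, toUnit_unique (g ≫ toUnit G) (𝟙 _), Category.id_comp, Category.comp_id]
  have hτinv : ∀ r : P ⟶ G, τ r ≫ τ r⁻¹ = 𝟙 G := fun r => by
    simp [τ, MonObj.comp_mul, GrpObj.comp_inv, toUnit_unique _ (toUnit G)]
  let U : Set G.left := ⋃ r ∈ F, (τ r).left.base '' Set.range iH.left.base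
  have hU : IsClosed U := by
    refine F.finite_toSet.isClosed_biUnion fun r _ => ?_
    haveI : IsIso (τ r) := ⟨τ r⁻¹, hτinv r, by simpa using hτinv r⁻¹⟩
    haveI : IsIso (τ r).left := inferInstanceAs (IsIso ((Over.forget _).map (τ r)))
    exact (τ r).left.homeomorph.isClosedMap _ iH.left.isClosedEmbedding.isClosed_range
  have hWU : ∀ g ∈ W, g.left.base t0 ∈ U := by
    intro g hg
    obtain ⟨r, hr, hrg⟩ := hF g hg
    obtain ⟨q, hq⟩ := hKH hrg
    refine Set.mem_biUnion hr ⟨_, ⟨q.left.base t0, rfl⟩, ?_⟩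
    have e : (q ≫ iH) ≫ τ r = g := by
      rw [hτc, show q ≫ iH = r⁻¹ * g from hq, mul_inv_cancel_left]
    exact congrArg (fun q => q.left.base t0) e
  have hsub : Set.range i.left.base ⊆ U := by
    obtain ⟨H₀, gH₀, i₀, hi₀, hci₀, -, -, hrange₀, hf₀, -⟩ := Gen.exists_smallest c
    obtain ⟨j, hj⟩ := hmin H₀ gH₀ i₀ hi₀ hci₀ hf₀
    rintro _ ⟨c₀, rfl⟩
    have hmem : i.left.base c₀ ∈ Set.range i₀.left.base := ⟨j.left.base c₀, by rw [← hj]; rfl⟩
    rw [hrange₀] at hmem
    refine closure_minimal ?_ hU hmem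
    rw [AlgGrpLib.Generated.productPoints_eq]
    refine Set.iUnion_subset fun n => ?_
    haveI : LocallyOfFiniteType (Gen.dbl X).hom := by
      refine IsZariskiLocalAtSource.of_openCover (P := @LocallyOfFiniteType) (coprodOpenCover.{u, 0} X.left X.left) fun i => ?_
      rcases i with _ | _
      · show LocallyOfFiniteType (coprod.inl ≫ coprod.desc X.hom X.hom)
        rw [coprod.inl_desc]; infer_instance
      · show LocallyOfFiniteType (coprod.inr ≫ coprod.desc X.hom X.hom)
        rw [coprod.inr_desc]; infer_instance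
    haveI := AlgGrpLib.Generated.locallyOfFiniteType_pow (X := Gen.dbl X) n
    haveI : JacobsonSpace (AlgGrpLib.Generated.Pow (Gen.dbl X) n).left :=
      LocallyOfFiniteType.jacobsonSpace (AlgGrpLib.Generated.Pow (Gen.dbl X) n).hom
    rintro _ ⟨z, rfl⟩
    have key : closedPoints (AlgGrpLib.Generated.Pow (Gen.dbl X) n).left ⊆
        (AlgGrpLib.Generated.powProd (Gen.sym c) n).left.base ⁻¹' U := by
      intro w hw
      obtain ⟨q, hq⟩ := exists_point (Z := AlgGrpLib.Generated.Pow (Gen.dbl X) n) (z := w) hw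
      have h2 : q ≫ AlgGrpLib.Generated.powProd (Gen.sym c) n ∈ W := by
        refine (Subgroup.closure_le W).2 ?_ (AlgGrpLib.Generated.powProd_mem_closure (Gen.sym c) n q)
        rintro _ ⟨y, rfl⟩
        haveI : IsImmersion (Gen.dblL X).left := inferInstanceAs (IsImmersion (coprod.inl : X.left ⟶ X.left ⨿ X.left))
        haveI : IsImmersion (Gen.dblR X).left := inferInstanceAs (IsImmersion (coprod.inr : X.left ⟶ X.left ⨿ X.left))
        show y ≫ Gen.sym c ∈ W
        rcases Gen.mem_range_dbl (y.left.base t0) with hy | hy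
        · obtain ⟨y', rfl⟩ := exists_lift_pt k _ y hy
          rw [Category.assoc, Gen.dblL_sym]; exact hcW y'
        · obtain ⟨y', rfl⟩ := exists_lift_pt k _ y hy
          rw [Category.assoc, Gen.dblR_sym, GrpObj.comp_inv]; exact inv_mem (hcW y')
      show (AlgGrpLib.Generated.powProd (Gen.sym c) n).left.base w ∈ U
      rw [← hq t0]
      exact hWU _ h2
    have hz : z ∈ closure (closedPoints (AlgGrpLib.Generated.Pow (Gen.dbl X) n).left) := by
      rw [closure_closedPoints]; trivial
    exact closure_minimal key (hU.preimage (AlgGrpLib.Generated.powProd (Gen.sym c) n).left.continuous) hz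
  refine Set.Subset.antisymm ?_ ?_
  · rintro _ ⟨z, rfl⟩
    obtain ⟨r, hr, _, ⟨w, rfl⟩, hw⟩ := Set.mem_iUnion₂.1 (hsub ⟨z.left.base t0, rfl⟩)
    obtain ⟨q, hq⟩ := exists_lift_pt k iH (r⁻¹ * (z ≫ i)) (by
      refine ⟨w, ?_⟩
      rw [← hτc]
      have h1 : (τ r⁻¹).left.base ((τ r).left.base (iH.left.base w)) = iH.left.base w := by
        show (τ r ≫ τ r⁻¹).left.base (iH.left.base w) = _
        rw [hτinv]; rfl
      rw [hw] at h1
      exact h1.symm)
    show z ≫ i ∈ W
    rw [← mul_inv_cancel_left r (z ≫ i), ← hq]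
    exact mul_mem (hFW r hr) (hHW' q)
  · obtain ⟨f', hf'⟩ := hf
    intro g hg
    suffices h : W ≤ (ptHom k i).range from h hg
    refine Subgroup.commutator_le.2 ?_
    rintro _ ⟨x, rfl⟩ _ ⟨y, rfl⟩
    exact ⟨lift x y ≫ f', (Category.assoc _ _ _).trans ((congrArg (lift x y ≫ ·) hf').trans (hc x y))⟩

end Groth.Agent.SGA3Word26.Comm
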