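import Mathlib.CategoryTheory.Monoidal.Cartesian.Grp
import Mathlib.AlgebraicGeometry.Morphisms.FinitePresentation
import Mathlib.CategoryTheory.Monoidal.Cartesian.Over
import Groth.Prelude.Def_SGA3

/-! Word morphisms built from one morphism into a group object. -/

set_option autoImplicit false
set_option backward.isDefEq.respectTransparency.types false
set_option linter.style.haveILetI false

universe v u

open CategoryTheory MonoidalCategory CartesianMonoidalCategory MonObj AlgebraicGeometry Limits

namespace Groth.Agent.SGA3Word26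

variable {S : Scheme.{u}} (X : Over S)

/-- The source of the word of signature `l`. -/
noncomputable def wObj : List Bool → Over S
  | [] => 𝟙_ (Over S)
  | _ :: l => X ⊗ wObj l

theorem lfp_wObj [LocallyOfFinitePresentation X.hom] : ∀ l, LocallyOfFinitePresentation (wObj X l).hom
  | [] => by show LocallyOfFinitePresentation (𝟙 S); infer_instance
  | b :: l => by
    haveI := lfp_wObj l
    show LocallyOfFinitePresentation (X ⊗ wObj X l).hom
    rw [Over.tensorObj_hom]
    infer_instance

theorem lft_wObj [LocallyOfFiniteType X.hom] : ∀ l, LocallyOfFiniteType (wObj X l).hom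
  | [] => by show LocallyOfFiniteType (𝟙 S); infer_instance
  | b :: l => by
    haveI := lft_wObj l
    show LocallyOfFiniteType (X ⊗ wObj X l).hom
    rw [Over.tensorObj_hom]
    infer_instance

variable {X} {H : Over S} [GrpObj H] (f : X ⟶ H)

/-- The word morphism of signature `l`. -/
noncomputable def wMap : (l : List Bool) → (wObj X l ⟶ H)
  | [] => 1
  | b :: l => (show (X ⊗ wObj X l ⟶ H) from
      (if b then fst X (wObj X l) ≫ f else (fst X (wObj X l) ≫ f)⁻¹) * (snd X (wObj X l) ≫ wMap l))

theorem exists_wMap_eq (T : Over S) : ∀ (n : ℕ) (x : Fin n → (T ⟶ X)) (ε : Fin n → Bool),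
    ∃ v : T ⟶ wObj X (List.ofFn ε),
      v ≫ wMap f (List.ofFn ε) = (List.ofFn fun j : Fin n => if ε j then x j ≫ f else (x j ≫ f)⁻¹).prod := by
  intro n
  induction n with
  | zero =>
    intro x ε
    rw [show List.ofFn ε = [] from List.ofFn_zero, List.ofFn_zero, List.prod_nil]
    exact ⟨toUnit T, MonObj.comp_one _⟩
  | succ n ih =>
    intro x ε
    obtain ⟨v, hv⟩ := ih (fun j => x j.succ) (fun j => ε j.succ)
    rw [List.ofFn_succ (f := ε), List.ofFn_succ, List.prod_cons]
    refine ⟨(lift (x 0) v : T ⟶ X ⊗ wObj X (List.ofFn fun j => ε j.succ)), ?_⟩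
    show lift (x 0) v ≫ (_ * _) = _
    rw [MonObj.comp_mul, lift_snd_assoc, hv]
    cases ε 0 <;> simp [GrpObj.comp_inv]

theorem exists_proj : ∀ l : List Bool, ∃ x : Fin l.length → (wObj X l ⟶ X),
    (List.ofFn fun j : Fin l.length => if l.get j then x j ≫ f else (x j ≫ f)⁻¹).prod = wMap f l
  | [] => ⟨fun j => j.elim0, by simp [wMap]⟩
  | b :: l => by
    obtain ⟨x, hx⟩ := exists_proj l
    refine ⟨Fin.cases (fst X (wObj X l)) fun j => snd X (wObj X l) ≫ x j, ?_⟩
    simp only [List.length_cons, List.ofFn_succ, List.prod_cons, Fin.cases_zero, Fin.cases_succ]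
    show _ = _ * _
    rw [← hx]
    have hd : ∀ (L : List (wObj X l ⟶ H)), snd X (wObj X l) ≫ L.prod = (L.map fun y => snd X (wObj X l) ≫ y).prod := by
      intro L
      induction L with
      | nil => simp [MonObj.comp_one]
      | cons a L ih => simp [MonObj.comp_mul, ih]
    rw [hd, List.map_ofFn]
    congr 2
    congr 1
    funext j
    simp only [Function.comp_apply, List.get_eq_getElem, Fin.val_succ, List.getElem_cons_succ]
    split_ifs <;> simp [GrpObj.comp_inv] <;> rfl

/-- The points lying under words of length `n`. -/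
theorem mem_words_iff (n : ℕ) (h : H.left) :
    (∃ (T : Over S) (p : T.left) (x : Fin n → (T ⟶ X)) (ε : Fin n → Bool),
      ((List.ofFn fun j : Fin n => if ε j then x j ≫ f else (x j ≫ f)⁻¹).prod : T ⟶ H).left.base p = h) ↔
    ∃ l : List Bool, l.length = n ∧ h ∈ Set.range (wMap f l).left.base := by
  constructor
  · rintro ⟨T, p, x, ε, hp⟩
    obtain ⟨v, hv⟩ := exists_wMap_eq f T n x ε
    refine ⟨List.ofFn ε, List.length_ofFn, v.left.base p, ?_⟩
    rw [← hp, ← hv]
    rfl
  · rintro ⟨l, rfl, p, hp⟩
    obtain ⟨x, hx⟩ := exists_proj f l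
    exact ⟨wObj X l, p, x, l.get, by rw [hx, hp]⟩

end Groth.Agent.SGA3Word26
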