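import Groth.Agent.SGA3Word26.Generated
import Groth.Agent.SGA3Word26.Words
import Groth.Agent.AlgGrpLib.GeneratedStab
import Groth.Agent.AbVarLib.PerfectReduced
import Groth.Agent.SGA3UnitSec.KernelPair
import Groth.Agent.SGA3cLib.BCPoints
import Groth.Agent.DimLib.Components

/-! The subgroup generated by a geometrically connected scheme consists of words of bounded length. -/

set_option autoImplicit false
set_option linter.style.haveILetI false
set_option backward.isDefEq.respectTransparency.types false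

universe u

open CategoryTheory CategoryTheory.Limits MonoidalCategory CartesianMonoidalCategory MonObj GrpObj AlgebraicGeometry
open scoped CategoryTheory.Obj

noncomputable section

namespace Groth.Agent.SGA3Word26.Bounded

variable {k : Type u} [Field k]

local notation "𝕊" => Spec (CommRingCat.of k)

/-- The product of a signed list of points. -/
def wprod {S : Scheme.{u}} {G X T : Over S} [GrpObj G] (f : X ⟶ G) (l : List (Bool × (T ⟶ X))) : T ⟶ G :=
  (l.map fun p => if p.1 then p.2 ≫ f else (p.2 ≫ f)⁻¹).prod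

section

variable {S : Scheme.{u}} {G X T T' : Over S} [GrpObj G] (f : X ⟶ G)

theorem wprod_cons (p : Bool × (T ⟶ X)) (l : List (Bool × (T ⟶ X))) :
    wprod f (p :: l) = (if p.1 then p.2 ≫ f else (p.2 ≫ f)⁻¹) * wprod f l := List.prod_cons

theorem wprod_append (l l' : List (Bool × (T ⟶ X))) : wprod f (l ++ l') = wprod f l * wprod f l' := by
  simp [wprod]

theorem wprod_comp (w : T' ⟶ T) : ∀ l : List (Bool × (T ⟶ X)),
    wprod f (l.map fun p => (p.1, w ≫ p.2)) = w ≫ wprod f l
  | [] => (MonObj.comp_one w).symm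
  | p :: l => by
    rw [List.map_cons, wprod_cons, wprod_cons, wprod_comp w l, MonObj.comp_mul]
    rcases p with ⟨_ | _, a⟩ <;> simp [GrpObj.comp_inv]

theorem wprod_inv : ∀ l : List (Bool × (T ⟶ X)),
    wprod f (l.map fun p => (!p.1, p.2)).reverse = (wprod f l)⁻¹
  | [] => by simp [wprod]
  | p :: l => by
    rw [List.map_cons, List.reverse_cons, wprod_append, wprod_inv l, wprod_cons f p l, _root_.mul_inv_rev]
    congr 1
    rcases p with ⟨_ | _, a⟩ <;> simp [wprod]

theorem exists_fin (l : List (Bool × (T ⟶ X))) : ∃ (x : Fin l.length → (T ⟶ X)) (ε : Fin l.length → Bool),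
    (List.ofFn fun j : Fin l.length => if ε j then x j ≫ f else (x j ≫ f)⁻¹).prod = wprod f l := by
  refine ⟨fun j => (l.get j).2, fun j => (l.get j).1, congrArg List.prod ?_⟩
  conv_rhs => rw [← List.ofFn_get l]
  rw [List.map_ofFn]
  rfl

end

/-- A morphism from a point landing at the unit is the unit. -/
theorem eq_one_of_mem {G T : Over 𝕊} [GrpObj G] [IsReduced T.left] (a : T ⟶ G)
    (h : Set.range a.left.base ⊆ Set.range (η[G] : 𝟙_ (Over 𝕊) ⟶ G).left.base) : a = 1 := by
  haveI : IsImmersion (η[G] : 𝟙_ (Over 𝕊) ⟶ G).left := by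
    haveI : IsImmersion ((η[G] : 𝟙_ (Over 𝕊) ⟶ G).left ≫ G.hom) := by
      rw [Over.w]; exact inferInstanceAs (IsImmersion (𝟙 𝕊))
    exact IsImmersion.of_comp _ G.hom
  obtain ⟨q, hq⟩ := RedSepLib.exists_lift_of_range_subset a.left (η[G] : 𝟙_ (Over 𝕊) ⟶ G).left h
  let q' : T ⟶ 𝟙_ (Over 𝕊) := Over.homMk q (by rw [← Over.w a, ← hq, Category.assoc, Over.w η[G]])
  rw [← show q' ≫ η[G] = a from Over.OverMorphism.ext hq, toUnit_unique q' (toUnit T)]
  rfl

section AlgClosed

variable [IsAlgClosed k] {G X : Over (Spec (CommRingCat.of k))} [GrpObj G] [LocallyOfFiniteType X.hom] (f : X ⟶ G)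

theorem exists_point {Z : Over 𝕊} [LocallyOfFiniteType Z.hom] {z : Z.left} (hz : IsClosed ({z} : Set Z.left)) :
    ∃ q : 𝟙_ (Over 𝕊) ⟶ Z, ∀ t, q.left.base t = z :=
  ⟨Over.homMk (pointOfClosedPoint Z.hom z hz) (pointOfClosedPoint_comp Z.hom z hz),
    fun t => pointOfClosedPoint_apply Z.hom z hz t⟩

/-- An irreducible source of words generating the differences within every member of a list of components. -/
theorem exists_source [QuasiCompact X.hom] (L : List (Set X.left))
    (hL : ∀ C ∈ L, IsIrreducible C ∧ IsClosed C) :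
    ∃ (Y : Over 𝕊) (y₀ : 𝟙_ (Over 𝕊) ⟶ Y) (l : List (Bool × (Y ⟶ X))), IrreducibleSpace Y.left ∧
      GeometricallyReduced Y.hom ∧ LocallyOfFiniteType Y.hom ∧ QuasiCompact Y.hom ∧ y₀ ≫ wprod f l = 1 ∧
      ∀ C ∈ L, ∀ a b : 𝟙_ (Over 𝕊) ⟶ X, Set.range a.left.base ⊆ C → Set.range b.left.base ⊆ C →
        ∃ r : 𝟙_ (Over 𝕊) ⟶ Y, r ≫ wprod f l = (a ≫ f) * (b ≫ f)⁻¹ := by
  induction L with
  | nil =>
    refine ⟨𝟙_ (Over 𝕊), 𝟙 _, [], inferInstanceAs (IrreducibleSpace (PrimeSpectrum k)),
      ?_, inferInstanceAs (LocallyOfFiniteType (𝟙 𝕊)),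
      inferInstanceAs (QuasiCompact (𝟙 𝕊)), Category.id_comp _, by simp⟩
    haveI : IsReduced (𝟙_ (Over (Spec (CommRingCat.of k)))).left := inferInstanceAs (IsReduced (Spec (CommRingCat.of k)))
    exact AbVarLib.geometricallyReduced_of_perfectField _
  | cons C L ih =>
    obtain ⟨Y, y₀, l, hYi, hYr, hYt, hYq, hy₀, hY⟩ := ih fun D hD => hL D (List.mem_cons_of_mem _ hD)
    obtain ⟨hCi, hCc⟩ := hL C (List.mem_cons_self ..)
    let I := Scheme.IdealSheafData.vanishingIdeal (⟨C, hCc⟩ : TopologicalSpace.Closeds X.left)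
    let P : Over 𝕊 := Over.mk (I.subschemeι ≫ X.hom)
    let iP : P ⟶ X := Over.homMk I.subschemeι rfl
    haveI : IsClosedImmersion iP.left := inferInstanceAs (IsClosedImmersion I.subschemeι)
    haveI : IsReduced P.left := (Props12.isReduced_subscheme_vanishingIdeal _ : IsReduced I.subscheme)
    have hrP : Set.range iP.left.base = C :=
      (Scheme.IdealSheafData.range_subschemeι I).trans (Scheme.IdealSheafData.coe_support_vanishingIdeal _)
    haveI hPt : LocallyOfFiniteType P.hom := inferInstanceAs (LocallyOfFiniteType (I.subschemeι ≫ X.hom))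
    haveI hPq : QuasiCompact P.hom := inferInstanceAs (QuasiCompact (I.subschemeι ≫ X.hom))
    haveI hPr : GeometricallyReduced P.hom := AbVarLib.geometricallyReduced_of_perfectField P.hom
    haveI hPi : IrreducibleSpace P.left := by
      refine iP.left.isEmbedding.toHomeomorph.irreducibleSpace_iff.mpr ?_
      exact Subtype.irreducibleSpace (hrP.symm ▸ hCi)
    obtain ⟨z, -, hzc⟩ := DimLib.exists_isClosed_singleton_mem P.hom (S := Set.univ) Set.univ_nonempty
      isClosed_univ.isLocallyClosed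
    obtain ⟨c, -⟩ := exists_point hzc
    haveI hPPr : GeometricallyReduced (P ⊗ P).hom := FBaseLib.geometricallyReduced_pullback P.hom P.hom
    haveI hPPt : LocallyOfFiniteType (P ⊗ P).hom := inferInstanceAs (LocallyOfFiniteType (pullback.fst P.hom P.hom ≫ P.hom))
    haveI hPPq : QuasiCompact (P ⊗ P).hom := inferInstanceAs (QuasiCompact (pullback.fst P.hom P.hom ≫ P.hom))
    haveI hPPi : IrreducibleSpace (P ⊗ P).left :=
      haveI := FBaseLib.geometricallyIrreducible_of_isAlgClosed P.hom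
      AlgGrpLib.OpenOrbit.irreducibleSpace_tensor P P
    haveI : GeometricallyIrreducible Y.hom := FBaseLib.geometricallyIrreducible_of_isAlgClosed Y.hom
    let Y' : Over 𝕊 := (P ⊗ P) ⊗ Y
    let u : Y' ⟶ X := fst (P ⊗ P) Y ≫ fst P P ≫ iP
    let v : Y' ⟶ X := fst (P ⊗ P) Y ≫ snd P P ≫ iP
    refine ⟨Y', lift (lift c c) y₀, [(true, u), (false, v)] ++ l.map (fun p => (p.1, snd (P ⊗ P) Y ≫ p.2)),
      AlgGrpLib.OpenOrbit.irreducibleSpace_tensor (P ⊗ P) Y, FBaseLib.geometricallyReduced_pullback (P ⊗ P).hom Y.hom,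
      inferInstanceAs (LocallyOfFiniteType (pullback.fst (P ⊗ P).hom Y.hom ≫ (P ⊗ P).hom)),
      inferInstanceAs (QuasiCompact (pullback.fst (P ⊗ P).hom Y.hom ≫ (P ⊗ P).hom)), ?_, ?_⟩
    · rw [wprod_append, wprod_comp, MonObj.comp_mul, lift_snd_assoc, hy₀]
      simp [wprod, u, v, MonObj.comp_mul, GrpObj.comp_inv]
    · intro D hD a b ha hb
      rw [List.mem_cons] at hD
      rcases hD with rfl | hD
      · have hl : ∀ a : 𝟙_ (Over 𝕊) ⟶ X, Set.range a.left.base ⊆ D → ∃ a' : 𝟙_ (Over 𝕊) ⟶ P, a' ≫ iP = a := by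
          intro a ha
          haveI : IsReduced (𝟙_ (Over 𝕊)).left := inferInstanceAs (IsReduced 𝕊)
          obtain ⟨q, hq⟩ := RedSepLib.exists_lift_of_range_subset a.left iP.left (hrP ▸ ha)
          exact ⟨Over.homMk q (by rw [← Over.w iP, ← Category.assoc, hq, Over.w]), Over.OverMorphism.ext hq⟩
        obtain ⟨a', rfl⟩ := hl a ha
        obtain ⟨b', rfl⟩ := hl b hb
        refine ⟨lift (lift a' b') y₀, ?_⟩
        rw [wprod_append, wprod_comp, MonObj.comp_mul, lift_snd_assoc, hy₀, _root_.mul_one]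
        simp [wprod, u, v, MonObj.comp_mul, GrpObj.comp_inv]
      · obtain ⟨r, hr⟩ := hY D hD a b ha hb
        refine ⟨lift (lift c c) r, ?_⟩
        rw [wprod_append, wprod_comp, MonObj.comp_mul, lift_snd_assoc, hr]
        simp [wprod, u, v, MonObj.comp_mul, GrpObj.comp_inv]

/-- Words of bounded length exhaust a closed subgroup through which the morphism factors. -/
theorem exists_bound [LocallyOfFiniteType G.hom] [QuasiCompact X.hom] [GeometricallyReduced X.hom]
    [ConnectedSpace X.left] (x₀ : 𝟙_ (Over 𝕊) ⟶ X) (hx₀ : x₀ ≫ f = 1) :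
    ∃ (H : Over 𝕊) (_ : GrpObj H) (i : H ⟶ G), IsMonHom i ∧ IsClosedImmersion i.left ∧ (∃ f' : X ⟶ H, f' ≫ i = f) ∧
      ∃ N : ℕ, ∀ g ∈ Set.range i.left.base, ∃ (T : Over 𝕊) (t : T.left) (l : List (Bool × (T ⟶ X))),
        l.length = N ∧ (wprod f l).left.base t = g := by
  haveI : CompactSpace ↥X.left := QuasiCompact.compactSpace_of_compactSpace X.hom
  haveI : IsLocallyNoetherian X.left := LocallyOfFiniteType.isLocallyNoetherian X.hom
  haveI : IsNoetherian X.left := {}
  haveI : JacobsonSpace X.left := LocallyOfFiniteType.jacobsonSpace X.hom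
  haveI : IsReduced X.left := GeometricallyReduced.isReduced_of_flat_of_isLocallyNoetherian X.hom
  have hfin : (irreducibleComponents X.left).Finite :=
    TopologicalSpace.NoetherianSpace.finite_irreducibleComponents
  obtain ⟨Y, y₀, l, hYi, hYr, hYt, hYq, hy₀, hY⟩ := exists_source f hfin.toFinset.toList (fun C hC => by
    rw [Finset.mem_toList, Set.Finite.mem_toFinset] at hC
    exact ⟨hC.1, isClosed_of_mem_irreducibleComponents C hC⟩)
  haveI := FBaseLib.geometricallyIrreducible_of_isAlgClosed Y.hom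
  let Z : Over 𝕊 := Y ⊗ Y
  haveI : IrreducibleSpace Z.left := AlgGrpLib.OpenOrbit.irreducibleSpace_tensor Y Y
  haveI : GeometricallyReduced Z.hom := FBaseLib.geometricallyReduced_pullback Y.hom Y.hom
  haveI : LocallyOfFiniteType Z.hom := inferInstanceAs (LocallyOfFiniteType (pullback.fst Y.hom Y.hom ≫ Y.hom))
  haveI : QuasiCompact Z.hom := inferInstanceAs (QuasiCompact (pullback.fst Y.hom Y.hom ≫ Y.hom))
  let ψ := wprod f l
  let φ : Z ⟶ G := (fst Y Y ≫ ψ) * (snd Y Y ≫ ψ)⁻¹
  let lZ : List (Bool × (Z ⟶ X)) := l.map (fun p => (p.1, fst Y Y ≫ p.2)) ++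
    ((l.map fun p => (p.1, snd Y Y ≫ p.2)).map fun p => (!p.1, p.2)).reverse
  have hlZ : wprod f lZ = φ := by rw [wprod_append, wprod_inv, wprod_comp, wprod_comp]
  have hinv : Set.range (φ ≫ ι[G]).left.base ⊆ Set.range φ.left.base := by
    rintro _ ⟨z, rfl⟩
    refine ⟨(lift (snd Y Y) (fst Y Y) : Z ⟶ Z).left.base z, ?_⟩
    have e : (lift (snd Y Y) (fst Y Y) : Z ⟶ Z) ≫ φ = φ ≫ ι[G] := by
      rw [← Hom.inv_def, MonObj.comp_mul, GrpObj.comp_inv, lift_fst_assoc, lift_snd_assoc, _root_.mul_inv_rev,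
        _root_.inv_inv]
    exact congrArg (fun q => q.left.base z) e
  obtain ⟨H, gH, i, hi, hci, -, -, ⟨φ', hφ'⟩, M, p, hp, hps, -⟩ :=
    AlgGrpLib.Generated.exists_generated_stab φ hinv (lift y₀ y₀) (by
      rw [MonObj.comp_mul, GrpObj.comp_inv, lift_fst_assoc, lift_snd_assoc, hy₀, inv_one, _root_.mul_one])
  haveI := hi
  refine ⟨H, gH, i, hi, hci, ?_, ?_⟩
  · -- `f` factors through `H`
    let F : Set X.left := f.left.base ⁻¹' Set.range i.left.base
    have hF : IsClosed F := i.left.isClosedEmbedding.isClosed_range.preimage f.left.continuous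
    haveI : IsReduced (𝟙_ (Over 𝕊)).left := inferInstanceAs (IsReduced 𝕊)
    haveI : Subsingleton ↥(𝟙_ (Over 𝕊)).left := inferInstanceAs (Subsingleton (PrimeSpectrum k))
    let t0 : (𝟙_ (Over 𝕊)).left := IsLocalRing.closedPoint k
    have hfac : ∀ a : 𝟙_ (Over 𝕊) ⟶ X, a.left.base t0 ∈ F → ∃ q, q ≫ i = a ≫ f := fun a ha => by
      obtain ⟨q, hq⟩ := RedSepLib.exists_lift_of_range_subset (a ≫ f).left i.left (by
        rintro _ ⟨t, rfl⟩
        rw [Subsingleton.elim t t0]
        exact ha)
      exact ⟨Over.homMk q (by rw [← Over.w i, ← Category.assoc, hq, Over.w]), Over.OverMorphism.ext hq⟩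
    have hcomp : ∀ C ∈ irreducibleComponents X.left, (C ∩ F).Nonempty → C ⊆ F := by
      intro C hC hne
      have hCc := isClosed_of_mem_irreducibleComponents C hC
      obtain ⟨a, ⟨haC, haF⟩, hac⟩ := DimLib.exists_isClosed_singleton_mem X.hom hne (hCc.inter hF).isLocallyClosed
      obtain ⟨qa, hqa⟩ := exists_point hac
      have key : ∀ b ∈ C ∩ closedPoints X.left, b ∈ F := by
        rintro b ⟨hbC, hbc⟩
        obtain ⟨qb, hqb⟩ := exists_point (Z := X) (z := b) hbc
        obtain ⟨r, hr⟩ := hY C (by rw [Finset.mem_toList, Set.Finite.mem_toFinset]; exact hC) qb qa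
          (by rintro _ ⟨t, rfl⟩; rw [hqb]; exact hbC) (by rintro _ ⟨t, rfl⟩; rw [hqa]; exact haC)
        obtain ⟨ha', hha'⟩ := hfac qa (by rw [hqa]; exact haF)
        let w : 𝟙_ (Over 𝕊) ⟶ H := lift r y₀ ≫ φ' * ha'
        have hw : w ≫ i = qb ≫ f := by
          rw [MonObj.mul_comp, Category.assoc, hφ', hha', MonObj.comp_mul, GrpObj.comp_inv, lift_fst_assoc,
            lift_snd_assoc, hy₀, inv_one, _root_.mul_one, hr, inv_mul_cancel_right]
        refine ⟨w.left.base t0, ?_⟩
        rw [← hqb t0]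
        exact congrArg (fun q => q.left.base t0) hw
      intro c hc
      have hdense : C ⊆ closure (C ∩ closedPoints X.left) := by
        rw [JacobsonSpace.closure_inter_closedPoints hCc]
      exact closure_minimal key hF (hdense hc)
    have hFuniv : F = Set.univ := by
      let B : Set X.left := ⋃ C ∈ {C ∈ irreducibleComponents X.left | ¬ (C ∩ F).Nonempty}, C
      have hB : IsClosed B := (hfin.subset fun C hC => hC.1).isClosed_biUnion fun C hC =>
        isClosed_of_mem_irreducibleComponents C hC.1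
      have hcov : Fᶜ = B := by
        ext x
        constructor
        · intro hx
          refine Set.mem_biUnion (x := irreducibleComponent x) ⟨irreducibleComponent_mem_irreducibleComponents x, fun hne =>
            hx (hcomp _ (irreducibleComponent_mem_irreducibleComponents x) hne mem_irreducibleComponent)⟩ mem_irreducibleComponent
        · rw [Set.mem_iUnion₂]
          rintro ⟨C, ⟨-, hC⟩, hxC⟩ hxF
          exact hC ⟨x, hxC, hxF⟩
      refine (isClopen_iff.1 ⟨hF, isClosed_compl_iff.1 (hcov ▸ hB)⟩).resolve_left fun h => ?_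
      have : x₀.left.base t0 ∈ F := ⟨(η[H] : 𝟙_ (Over 𝕊) ⟶ H).left.base t0, by
        have e : (η[H] : 𝟙_ (Over 𝕊) ⟶ H) ≫ i = x₀ ≫ f := by
          rw [hx₀, IsMonHom.one_hom, Hom.one_def, toUnit_unique (toUnit _) (𝟙 _), Category.id_comp]
        exact congrArg (fun q => q.left.base t0) e⟩
      rw [h] at this
      exact this
    obtain ⟨q, hq⟩ := RedSepLib.exists_lift_of_range_subset f.left i.left (by
      rintro _ ⟨x, rfl⟩
      exact (hFuniv ▸ Set.mem_univ x : x ∈ F))
    exact ⟨Over.homMk q (by rw [← Over.w i, ← Category.assoc, hq, Over.w]), Over.OverMorphism.ext hq⟩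
  · obtain ⟨lp, hlp⟩ := AlgGrpLib.Generated.exists_list φ M
    let big : List (Bool × (AlgGrpLib.Generated.Pow Z M ⟶ X)) :=
      lp.flatMap fun e => lZ.map fun p => (p.1, e ≫ p.2)
    have hbig : wprod f big = AlgGrpLib.Generated.powProd φ M := by
      rw [← hlp]
      have : ∀ L : List (AlgGrpLib.Generated.Pow Z M ⟶ Z),
          wprod f (L.flatMap fun e => lZ.map fun p => (p.1, e ≫ p.2)) = (L.map fun e => e ≫ φ).prod := by
        intro L
        induction L with
        | nil => rfl
        | cons e L ih => rw [List.flatMap_cons, wprod_append, wprod_comp, hlZ, ih, List.map_cons, List.prod_cons]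
      exact this lp
    refine ⟨big.length, ?_⟩
    rintro _ ⟨h, rfl⟩
    obtain ⟨t, rfl⟩ := p.left.surjective h
    exact ⟨_, t, big, rfl, by rw [hbig, ← hp]; rfl⟩

end AlgClosed

/-- The subgroup generated is exhausted by words of a fixed length. -/
theorem main (k : Type u) [Field k]
    (G X : Over (Spec (CommRingCat.of k))) [GrpObj G] [LocallyOfFiniteType G.hom]
    [LocallyOfFiniteType X.hom] [QuasiCompact X.hom] [GeometricallyReduced X.hom] [GeometricallyConnected X.hom]
    (f : X ⟶ G) (he : ∃ x : X.left, f.left.base x ∈ Set.range (η[G] : 𝟙_ (Over (Spec (CommRingCat.of k))) ⟶ G).left.base)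
    (Γ : Over (Spec (CommRingCat.of k))) [GrpObj Γ] (i : Γ ⟶ G) [IsMonHom i] [IsClosedImmersion i.left]
    (hf : ∃ f' : X ⟶ Γ, f' ≫ i = f)
    (hmin : ∀ (Γ' : Over (Spec (CommRingCat.of k))) (_ : GrpObj Γ') (i' : Γ' ⟶ G), IsMonHom i' → IsClosedImmersion i'.left →
        (∃ f'' : X ⟶ Γ', f'' ≫ i' = f) → ∃ j : Γ ⟶ Γ', j ≫ i' = i) :
    ∃ N : ℕ, Set.range i.left.base =
      {g : G.left | ∃ (T : Over (Spec (CommRingCat.of k))) (p : T.left) (x : Fin N → (T ⟶ X)) (ε : Fin N → Bool),
        ((List.ofFn fun j : Fin N => if ε j then x j ≫ f else (x j ≫ f)⁻¹).prod : T ⟶ G).left.base p = g} := by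
  let K := AlgebraicClosure k
  let s : Spec (CommRingCat.of K) ⟶ Spec (CommRingCat.of k) := Spec.map (CommRingCat.ofHom (algebraMap k K))
  haveI : IsIntegralHom s := by
    rw [IsIntegralHom.SpecMap_iff]
    exact algebraMap_isIntegral_iff.2 (Algebra.IsAlgebraic.isIntegral : Algebra.IsIntegral k K)
  let F := Over.pullback s
  let G' := F.obj G
  let X' := F.obj X
  let f' : X' ⟶ G' := F.map f
  let π : G'.left ⟶ G.left := pullback.fst G.hom s
  haveI : IsIntegralHom π := MorphismProperty.pullback_fst (P := @IsIntegralHom) _ _ inferInstance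
  haveI : LocallyOfFiniteType G'.hom := inferInstanceAs (LocallyOfFiniteType (pullback.snd G.hom s))
  haveI : LocallyOfFiniteType X'.hom := inferInstanceAs (LocallyOfFiniteType (pullback.snd X.hom s))
  haveI : QuasiCompact X'.hom := inferInstanceAs (QuasiCompact (pullback.snd X.hom s))
  haveI : GeometricallyReduced X'.hom :=
    MorphismProperty.pullback_snd (P := @GeometricallyReduced) _ _ inferInstance
  haveI : ConnectedSpace X'.left :=
    GeometricallyConnected.geometrically_connectedSpace (f := X.hom) _ _ _ (IsPullback.of_hasPullback X.hom s)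
  -- a rational point over the unit
  obtain ⟨x₀, hx₀⟩ : ∃ x₀ : 𝟙_ (Over (Spec (CommRingCat.of K))) ⟶ X', x₀ ≫ f' = 1 := by
    haveI : IsSeparated G.hom := SGA3xLib.isSeparated_of_grpObj G
    haveI : IsClosedImmersion (η[G] : 𝟙_ (Over (Spec (CommRingCat.of k))) ⟶ G).left :=
      isClosedImmersion_of_comp_eq_id G.hom _ (Over.w _)
    let q : X'.left ⟶ G.left := pullback.fst X.hom s ≫ f.left
    let E : Set X'.left := q.base ⁻¹' Set.range (η[G] : 𝟙_ (Over (Spec (CommRingCat.of k))) ⟶ G).left.base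
    haveI : Surjective s := ⟨fun _ => ⟨IsLocalRing.closedPoint K, Subsingleton.elim (α := PrimeSpectrum k) _ _⟩⟩
    have hEne : E.Nonempty := by
      obtain ⟨x, hx⟩ := he
      haveI : Surjective (pullback.fst X.hom s) := MorphismProperty.pullback_fst (P := @Surjective) _ _ inferInstance
      obtain ⟨x', rfl⟩ := (pullback.fst X.hom s).surjective x
      exact ⟨x', hx⟩
    obtain ⟨z, hz, hzc⟩ := DimLib.exists_isClosed_singleton_mem X'.hom hEne
      (((η[G] : 𝟙_ (Over (Spec (CommRingCat.of k))) ⟶ G).left.isClosedEmbedding.isClosed_range.preimage q.continuous).isLocallyClosed)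
    obtain ⟨x₀, hx₀⟩ := exists_point hzc
    refine ⟨x₀, ?_⟩
    have hone : (SGA3cLib.BCPoints.pt s G (𝟙_ (Over (Spec (CommRingCat.of K))))).symm (x₀ ≫ f') = 1 := by
      haveI : IsReduced ((Over.map s).obj (𝟙_ (Over (Spec (CommRingCat.of K))))).left :=
        inferInstanceAs (IsReduced (Spec (CommRingCat.of K)))
      refine eq_one_of_mem _ ?_
      rintro _ ⟨t, rfl⟩
      have e : ((SGA3cLib.BCPoints.pt s G (𝟙_ (Over (Spec (CommRingCat.of K))))).symm (x₀ ≫ f')).left =
          x₀.left ≫ q := by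
        simp [SGA3cLib.BCPoints.pt, Over.mapPullbackAdj, q, f', F]
        exact (congrArg (x₀.left ≫ ·) (pullback.lift_fst _ _ _))
      rw [e]
      show q.base (x₀.left.base t) ∈ _
      rw [hx₀]
      exact hz
    have h2 := congrArg (SGA3cLib.BCPoints.pt s G (𝟙_ (Over (Spec (CommRingCat.of K))))) hone
    rw [Equiv.apply_symm_apply] at h2
    rw [h2]
    exact map_one (MonoidHom.mk' (SGA3cLib.BCPoints.pt s G (𝟙_ (Over (Spec (CommRingCat.of K))))) (SGA3cLib.BCPoints.pt_mul s))
  obtain ⟨H, gH, iH, hiH, hciH, ⟨fH, hfH⟩, N, hN⟩ := exists_bound f' x₀ hx₀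
  let Q : Set G.left := π.base '' Set.range iH.left.base
  have hQ : IsClosed Q := π.isClosedMap _ iH.left.isClosedEmbedding.isClosed_range
  obtain ⟨H₀, gH₀, i₀, hi₀, hci₀, -, -, hrange₀, hf₀, -⟩ := Gen.exists_smallest f
  obtain ⟨j, hj⟩ := hmin H₀ gH₀ i₀ hi₀ hci₀ hf₀
  have hsub : Set.range i.left.base ⊆ Q := by
    rintro _ ⟨c₀, rfl⟩
    have hmem : i.left.base c₀ ∈ Set.range i₀.left.base := ⟨j.left.base c₀, by rw [← hj]; rfl⟩
    rw [hrange₀] at hmem
    refine closure_minimal ?_ hQ hmem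
    rintro _ ⟨T, l, t, rfl⟩
    -- all factors land in H
    haveI : GeometricallyReduced (F.obj (Gen.dbl X)).hom :=
      MorphismProperty.pullback_snd (P := @GeometricallyReduced) _ _ inferInstance
    haveI : IsReduced (F.obj (Gen.dbl X)).left :=
      GeometricallyReduced.isReduced_of_flat_of_isLocallyNoetherian (F.obj (Gen.dbl X)).hom
    obtain ⟨fd, hfd⟩ : ∃ fd : F.obj (Gen.dbl X) ⟶ H, fd ≫ iH = F.map (Gen.sym f) := by
      haveI := hiH
      obtain ⟨q, hq⟩ := RedSepLib.exists_lift_of_range_subset (F.map (Gen.sym f)).left iH.left (by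
        rintro _ ⟨z, rfl⟩
        have lift' : ∀ (d : X ⟶ Gen.dbl X) (x : X.left), d.left.base x = (pullback.fst (Gen.dbl X).hom s).base z →
            ∃ w : X'.left, (F.map d).left.base w = z := by
          intro d x hx
          obtain ⟨w, hw, -⟩ := Scheme.exists_preimage_of_isPullback
            (SGA3UnitSec.isPullback_map_left s d).flip z x hx.symm
          exact ⟨w, hw⟩
        rcases Gen.mem_range_dbl ((pullback.fst (Gen.dbl X).hom s).base z) with ⟨x, hx⟩ | ⟨x, hx⟩
        · obtain ⟨w, hw⟩ := lift' _ x hx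
          refine ⟨fH.left.base w, ?_⟩
          rw [← hw]
          have e : fH ≫ iH = F.map (Gen.dblL X) ≫ F.map (Gen.sym f) := by rw [hfH, ← F.map_comp, Gen.dblL_sym]
          exact congrArg (fun q => q.left.base w) e
        · obtain ⟨w, hw⟩ := lift' _ x hx
          refine ⟨(fH⁻¹ : X' ⟶ H).left.base w, ?_⟩
          rw [← hw]
          have e : fH⁻¹ ≫ iH = F.map (Gen.dblR X) ≫ F.map (Gen.sym f) := by
            rw [GrpObj.inv_comp, hfH, ← F.map_comp, Gen.dblR_sym, Functor.map_inv']
          exact congrArg (fun q => q.left.base w) e)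
      exact ⟨Over.homMk q (by rw [← Over.w iH, ← Category.assoc, hq, Over.w]), Over.OverMorphism.ext hq⟩
    let W := (l.map fun y => y ≫ Gen.sym f).prod
    have hW : ∃ w : F.obj T ⟶ H, w ≫ iH = F.map W := by
      haveI := hiH
      change ∃ w : F.obj T ⟶ H, w ≫ iH = F.map ((l.map fun y => y ≫ Gen.sym f).prod)
      clear W
      induction l with
      | nil => exact ⟨1, by rw [MonObj.one_comp, List.map_nil, List.prod_nil]; exact (map_one F.homMonoidHom).symm⟩
      | cons a l ih =>
        obtain ⟨w, hw⟩ := ih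
        refine ⟨(F.map a ≫ fd) * w, ?_⟩
        rw [MonObj.mul_comp, hw, Category.assoc, hfd, List.map_cons, List.prod_cons, Functor.map_mul, F.map_comp]
    obtain ⟨w, hw⟩ := hW
    haveI : Surjective s := ⟨fun _ => ⟨IsLocalRing.closedPoint K, Subsingleton.elim (α := PrimeSpectrum k) _ _⟩⟩
    haveI : Surjective (pullback.fst T.hom s) := MorphismProperty.pullback_fst (P := @Surjective) _ _ inferInstance
    obtain ⟨t', rfl⟩ := (pullback.fst T.hom s).surjective t
    refine ⟨(F.map W).left.base t', ⟨w.left.base t', by rw [← hw]; rfl⟩, ?_⟩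
    exact congrArg (fun q => q.base t') (SGA3UnitSec.isPullback_map_left s W).w.symm
  refine ⟨N, Set.Subset.antisymm ?_ ?_⟩
  · intro g hg
    obtain ⟨_, hh, rfl⟩ := hsub hg
    obtain ⟨T', t', l, hl, rfl⟩ := hN _ hh
    subst hl
    let T : Over (Spec (CommRingCat.of k)) := (Over.map s).obj T'
    let e := SGA3cLib.BCPoints.pt s X T'
    let lk : List (Bool × (T ⟶ X)) := l.map fun p => (p.1, e.symm p.2)
    have hlk' : ∀ L : List (Bool × (T' ⟶ X')),
        SGA3cLib.BCPoints.pt s G T' (wprod f (L.map fun p => (p.1, e.symm p.2))) = wprod f' L := by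
      intro L
      induction L with
      | nil => exact map_one (MonoidHom.mk' (SGA3cLib.BCPoints.pt s G T') (SGA3cLib.BCPoints.pt_mul s))
      | cons p L ih =>
        rw [List.map_cons, wprod_cons, wprod_cons, SGA3cLib.BCPoints.pt_mul, ih]
        rcases p with ⟨_ | _, a⟩ <;>
          simp [SGA3cLib.BCPoints.pt_inv, SGA3cLib.BCPoints.pt_comp, e, f', F]
    have hlk : SGA3cLib.BCPoints.pt s G T' (wprod f lk) = wprod f' l := hlk' l
    obtain ⟨x, ε, hx⟩ := exists_fin f lk
    have hlen : lk.length = l.length := List.length_map _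
    refine ⟨T, t', fun j => x (Fin.cast hlen.symm j), fun j => ε (Fin.cast hlen.symm j), ?_⟩
    rw [← List.ofFn_congr hlen (fun j : Fin lk.length => if ε j then x j ≫ f else (x j ≫ f)⁻¹), hx]
    have e2 : (wprod f' l).left ≫ π = (wprod f lk).left := by
      rw [← hlk]
      simp [SGA3cLib.BCPoints.pt, Over.mapPullbackAdj, π]
      exact pullback.lift_fst _ _ _
    rw [← e2]
    rfl
  · rintro g ⟨T, p, x, ε, rfl⟩
    obtain ⟨fΓ, hfΓ⟩ := hf
    let y : Fin N → (T ⟶ Γ) := fun j => if ε j then x j ≫ fΓ else (x j ≫ fΓ)⁻¹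
    refine ⟨((List.ofFn y).prod).left.base p, ?_⟩
    have e : (List.ofFn y).prod ≫ i = (List.ofFn fun j : Fin N => if ε j then x j ≫ f else (x j ≫ f)⁻¹).prod := by
      have := map_list_prod (MonoidHom.mk' (fun q : T ⟶ Γ => q ≫ i) fun a b => MonObj.mul_comp a b i) (List.ofFn y)
      rw [MonoidHom.mk'_apply] at this
      rw [this, List.map_ofFn]
      congr 2
      funext j
      simp only [y, Function.comp_apply, MonoidHom.mk'_apply]
      split_ifs <;> simp [GrpObj.inv_comp, hfΓ]
    exact congrArg (fun q => q.left.base p) e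

end Groth.Agent.SGA3Word26.Bounded
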