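import Groth.Agent.SGA3Word26.Bounded

/-! The subgroup generated when a subgroup in the image has finite index among the words. -/

set_option autoImplicit false
set_option linter.style.haveILetI false
set_option backward.isDefEq.respectTransparency.types false

universe u

open CategoryTheory CategoryTheory.Limits MonoidalCategory CartesianMonoidalCategory MonObj GrpObj AlgebraicGeometry
open scoped CategoryTheory.Obj

noncomputable section

namespace Groth.Agent.SGA3Word26.FinIndex

open Bounded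

theorem main (k : Type u) [Field k] [IsAlgClosed k]
    (G X H : Over (Spec (CommRingCat.of k))) [GrpObj G] [GrpObj H] [LocallyOfFiniteType G.hom]
    [LocallyOfFiniteType X.hom] [GeometricallyReduced X.hom] (f : X ⟶ G)
    (h : H ⟶ G) [IsMonHom h] [IsClosedImmersion h.left] (hH : Set.range h.left.base ⊆ Set.range f.left.base)
    (Γ : Over (Spec (CommRingCat.of k))) [GrpObj Γ] (i : Γ ⟶ G) [IsMonHom i] [IsClosedImmersion i.left]
    (hf : ∃ f' : X ⟶ Γ, f' ≫ i = f)
    (hmin : ∀ (Γ' : Over (Spec (CommRingCat.of k))) (_ : GrpObj Γ') (i' : Γ' ⟶ G), IsMonHom i' → IsClosedImmersion i'.left →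
        (∃ f'' : X ⟶ Γ', f'' ≫ i' = f) → ∃ j : Γ ⟶ Γ', j ≫ i' = i)
    (hfin : ∃ F : Finset (𝟙_ (Over (Spec (CommRingCat.of k))) ⟶ G),
      (∀ a ∈ F, ∃ (n : ℕ) (T : Over (Spec (CommRingCat.of k))) (p : T.left) (p₀ : (𝟙_ (Over (Spec (CommRingCat.of k)))).left) (x : Fin n → (T ⟶ X)) (ε : Fin n → Bool),
        ((List.ofFn fun j : Fin n => if ε j then x j ≫ f else (x j ≫ f)⁻¹).prod : T ⟶ G).left.base p = a.left.base p₀) ∧
      ∀ g : 𝟙_ (Over (Spec (CommRingCat.of k))) ⟶ G, (∃ (n : ℕ) (T : Over (Spec (CommRingCat.of k))) (p : T.left) (p₀ : (𝟙_ (Over (Spec (CommRingCat.of k)))).left) (x : Fin n → (T ⟶ X)) (ε : Fin n → Bool),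
        ((List.ofFn fun j : Fin n => if ε j then x j ≫ f else (x j ≫ f)⁻¹).prod : T ⟶ G).left.base p = g.left.base p₀) →
        ∃ a ∈ F, ∃ y : 𝟙_ (Over (Spec (CommRingCat.of k))) ⟶ H, g = a * (y ≫ h)) :
    (∃ m : ℕ, Set.range i.left.base =
      {g : G.left | ∃ (T : Over (Spec (CommRingCat.of k))) (p : T.left) (x : Fin m → (T ⟶ X)) (ε : Fin m → Bool),
        ((List.ofFn fun j : Fin m => if ε j then x j ≫ f else (x j ≫ f)⁻¹).prod : T ⟶ G).left.base p = g}) ∧
    ∃ F : Finset (𝟙_ (Over (Spec (CommRingCat.of k))) ⟶ G), Set.range i.left.base =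
      ⋃ a ∈ F, (fun z => ((λ_ G).inv ≫ (a ▷ G) ≫ μ[G]).left.base z) '' Set.range h.left.base := by
  classical
  obtain ⟨F, hF, hcov⟩ := hfin
  haveI : Subsingleton ↥(𝟙_ (Over (Spec (CommRingCat.of k)))).left := inferInstanceAs (Subsingleton (PrimeSpectrum k))
  haveI : IsReduced (𝟙_ (Over (Spec (CommRingCat.of k)))).left := inferInstanceAs (IsReduced (Spec (CommRingCat.of k)))
  let t0 : (𝟙_ (Over (Spec (CommRingCat.of k)))).left := IsLocalRing.closedPoint k
  have hext : ∀ a b : 𝟙_ (Over (Spec (CommRingCat.of k))) ⟶ G, a.left.base t0 = b.left.base t0 → a = b :=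
    fun a b hab => Over.OverMorphism.ext (ext_of_apply_closedPoint_eq G.hom (Over.w a) (Over.w b) hab)
  have hclosed : ∀ a : 𝟙_ (Over (Spec (CommRingCat.of k))) ⟶ G, IsClosed ({a.left.base t0} : Set G.left) :=
    fun a => ((pointEquivClosedPoint G.hom) ⟨a.left, Over.w a⟩).2
  -- rational words
  have hrat : ∀ a : 𝟙_ (Over (Spec (CommRingCat.of k))) ⟶ G, (∃ l : List Bool, a.left.base t0 ∈ Set.range (wMap f l).left.base) →
      ∃ la : List (Bool × (𝟙_ (Over (Spec (CommRingCat.of k))) ⟶ X)), wprod f la = a := by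
    rintro a ⟨l, hl⟩
    haveI := SGA3Word26.lft_wObj X l
    obtain ⟨z, hz, hzc⟩ := DimLib.exists_isClosed_singleton_mem (wObj X l).hom
      (S := (wMap f l).left.base ⁻¹' {a.left.base t0}) (hl.imp fun _ h => h)
      ((hclosed a).preimage (wMap f l).left.continuous).isLocallyClosed
    obtain ⟨q, hq⟩ := exists_point hzc
    obtain ⟨x, hx⟩ := exists_proj f l
    refine ⟨List.ofFn fun j => (l.get j, q ≫ x j), ?_⟩
    have e : wprod f (List.ofFn fun j => (l.get j, q ≫ x j)) = q ≫ wMap f l := by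
      rw [← hx, show (List.ofFn fun j => (l.get j, q ≫ x j)) = (List.ofFn fun j => (l.get j, x j)).map fun p => (p.1, q ≫ p.2) by
        rw [List.map_ofFn]; rfl, wprod_comp, wprod, List.map_ofFn]
      rfl
    rw [e]
    refine hext _ _ ?_
    show (wMap f l).left.base (q.left.base t0) = _
    rw [hq]; exact hz
  have hword : ∀ {T : Over (Spec (CommRingCat.of k))} (l : List (Bool × (T ⟶ X))) (p : T.left) (n : ℕ), l.length = n →
      ∃ (x : Fin n → (T ⟶ X)) (ε : Fin n → Bool),
        ((List.ofFn fun j : Fin n => if ε j then x j ≫ f else (x j ≫ f)⁻¹).prod : T ⟶ G).left.base p =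
          (wprod f l).left.base p := by
    intro T l p n hn
    subst hn
    obtain ⟨x, ε, hx⟩ := exists_fin f l
    exact ⟨x, ε, by rw [hx]⟩
  choose la hla using fun a : F => hrat a.1 (by
    obtain ⟨n, T, p, p₀, x, ε, hp⟩ := hF a.1 a.2
    obtain rfl : p₀ = t0 := Subsingleton.elim _ _
    obtain ⟨l, -, hl⟩ := (mem_words_iff f n _).1 ⟨T, p, x, ε, hp⟩
    exact ⟨l, hl⟩)
  -- a point over the unit
  obtain ⟨x₀, hx₀⟩ : ∃ x₀ : 𝟙_ (Over (Spec (CommRingCat.of k))) ⟶ X, x₀ ≫ f = 1 := by
    have h1 : (η[H] : 𝟙_ (Over (Spec (CommRingCat.of k))) ⟶ H) ≫ h = 1 := by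
      rw [IsMonHom.one_hom, Hom.one_def, toUnit_unique (toUnit _) (𝟙 _), Category.id_comp]
    have : (1 : 𝟙_ (Over (Spec (CommRingCat.of k))) ⟶ G).left.base t0 ∈ Set.range f.left.base :=
      hH ⟨(η[H] : 𝟙_ (Over (Spec (CommRingCat.of k))) ⟶ H).left.base t0, by rw [← h1]; rfl⟩
    obtain ⟨z, hz, hzc⟩ := DimLib.exists_isClosed_singleton_mem X.hom
      (S := f.left.base ⁻¹' {(1 : 𝟙_ (Over (Spec (CommRingCat.of k))) ⟶ G).left.base t0}) (this.imp fun _ h => h)
      ((hclosed 1).preimage f.left.continuous).isLocallyClosed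
    obtain ⟨q, hq⟩ := exists_point hzc
    refine ⟨q, hext _ _ ?_⟩
    show f.left.base (q.left.base t0) = _
    rw [hq]; exact hz
  let τ : (𝟙_ (Over (Spec (CommRingCat.of k))) ⟶ G) → (G ⟶ G) := fun a => (λ_ G).inv ≫ (a ▷ G) ≫ μ[G]
  have hτ : ∀ a, τ a = (toUnit G ≫ a) * 𝟙 G := fun a => by
    show (λ_ G).inv ≫ (a ▷ G) ≫ μ[G] = _
    rw [Hom.mul_def, ← Category.assoc]
    congr 1
    apply CartesianMonoidalCategory.hom_ext <;> simp
  have hτc : ∀ a {T : Over (Spec (CommRingCat.of k))} (g : T ⟶ G), g ≫ τ a = (toUnit T ≫ a) * g := fun a T g => by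
    rw [hτ, MonObj.comp_mul, ← Category.assoc, toUnit_unique (g ≫ toUnit G) (toUnit T), Category.comp_id]
  let U : Set G.left := ⋃ a ∈ F, (fun z => (τ a).left.base z) '' Set.range h.left.base
  have hU : IsClosed U := by
    refine F.finite_toSet.isClosed_biUnion fun a _ => ?_
    haveI : IsIso (τ a) := ⟨τ a⁻¹, by rw [hτc, hτ, GrpObj.comp_inv, inv_mul_cancel_left],
      by rw [hτc, hτ, GrpObj.comp_inv, mul_inv_cancel_left]⟩
    haveI : IsIso (τ a).left := inferInstanceAs (IsIso ((Over.forget _).map (τ a)))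
    exact (τ a).left.homeomorph.isClosedMap _ h.left.isClosedEmbedding.isClosed_range
  -- all words lie in `U`
  have hUrat : ∀ g : 𝟙_ (Over (Spec (CommRingCat.of k))) ⟶ G,
      (∃ l : List (Bool × (𝟙_ (Over (Spec (CommRingCat.of k))) ⟶ X)), wprod f l = g) → g.left.base t0 ∈ U := by
    rintro g ⟨l, rfl⟩
    obtain ⟨x, ε, hx⟩ := hword l t0 _ rfl
    obtain ⟨a, ha, y, hy⟩ := hcov _ ⟨_, _, t0, t0, x, ε, hx⟩
    refine Set.mem_biUnion ha ⟨(y ≫ h).left.base t0, ⟨y.left.base t0, rfl⟩, ?_⟩
    have e : (y ≫ h) ≫ τ a = wprod f l := by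
      rw [hτc, hy, toUnit_unique (toUnit _) (𝟙 _), Category.id_comp]
    exact congrArg (fun q => q.left.base t0) e
  have hsub : Set.range i.left.base ⊆ U := by
    obtain ⟨H₀, gH₀, i₀, hi₀, hci₀, -, -, hrange₀, hf₀, -⟩ := Gen.exists_smallest f
    obtain ⟨j, hj⟩ := hmin H₀ gH₀ i₀ hi₀ hci₀ hf₀
    rintro _ ⟨c₀, rfl⟩
    have hmem : i.left.base c₀ ∈ Set.range i₀.left.base := ⟨j.left.base c₀, by rw [← hj]; rfl⟩
    rw [hrange₀] at hmem
    refine closure_minimal ?_ hU hmem
    rw [AlgGrpLib.Generated.productPoints_eq]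
    refine Set.iUnion_subset fun n => ?_
    haveI : LocallyOfFiniteType (Gen.dbl X).hom := by
      refine IsZariskiLocalAtSource.of_openCover (P := @LocallyOfFiniteType) (coprodOpenCover.{u, 0} X.left X.left) fun i => ?_
      rcases i with _ | _
      · show LocallyOfFiniteType (coprod.inl ≫ coprod.desc X.hom X.hom)
        rw [coprod.inl_desc]; infer_instance
      · show LocallyOfFiniteType (coprod.inr ≫ coprod.desc X.hom X.hom)
        rw [coprod.inr_desc]; infer_instance
    haveI := AlgGrpLib.Generated.locallyOfFiniteType_pow (X := Gen.dbl X) n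
    haveI : JacobsonSpace (AlgGrpLib.Generated.Pow (Gen.dbl X) n).left :=
      LocallyOfFiniteType.jacobsonSpace (AlgGrpLib.Generated.Pow (Gen.dbl X) n).hom
    rintro _ ⟨z, rfl⟩
    let m := AlgGrpLib.Generated.powProd (Gen.sym f) n
    have key : closedPoints (AlgGrpLib.Generated.Pow (Gen.dbl X) n).left ⊆ m.left.base ⁻¹' U := by
      intro w hw
      obtain ⟨q, hq⟩ := exists_point (Z := AlgGrpLib.Generated.Pow (Gen.dbl X) n) (z := w) hw
      obtain ⟨L, hL⟩ := AlgGrpLib.Generated.exists_list (Gen.sym f) n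
      have hd : ∀ y : 𝟙_ (Over (Spec (CommRingCat.of k))) ⟶ Gen.dbl X, ∃ p : Bool × (𝟙_ (Over (Spec (CommRingCat.of k))) ⟶ X),
          y ≫ Gen.sym f = if p.1 then p.2 ≫ f else (p.2 ≫ f)⁻¹ := by
        intro y
        have hlift : ∀ (d : X ⟶ Gen.dbl X), IsImmersion d.left → y.left.base t0 ∈ Set.range d.left.base →
            ∃ y', y' ≫ d = y := by
          intro d hd hy
          obtain ⟨y', hy'⟩ := RedSepLib.exists_lift_of_range_subset y.left d.left (by
            rintro _ ⟨t, rfl⟩
            rwa [Subsingleton.elim t t0])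
          exact ⟨Over.homMk y' (by rw [← Over.w d, ← Category.assoc, hy', Over.w]), Over.OverMorphism.ext hy'⟩
        haveI : IsImmersion (Gen.dblL X).left := inferInstanceAs (IsImmersion (coprod.inl : X.left ⟶ X.left ⨿ X.left))
        haveI : IsImmersion (Gen.dblR X).left := inferInstanceAs (IsImmersion (coprod.inr : X.left ⟶ X.left ⨿ X.left))
        rcases Gen.mem_range_dbl (y.left.base t0) with hy | hy
        · obtain ⟨y', rfl⟩ := hlift _ inferInstance hy
          exact ⟨(true, y'), by simp [Gen.dblL_sym]⟩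
        · obtain ⟨y', rfl⟩ := hlift _ inferInstance hy
          exact ⟨(false, y'), by simp [Gen.dblR_sym, GrpObj.comp_inv]⟩
      choose pd hpd using hd
      have h1 : wprod f ((L.map fun y => q ≫ y).map pd) = q ≫ m := by
        show _ = q ≫ AlgGrpLib.Generated.powProd (Gen.sym f) n
        rw [← hL, ← AlgGrpLib.Generated.comp_prod (Gen.sym f), wprod, List.map_map]
        congr 1
        refine List.map_congr_left fun y _ => ?_
        exact (hpd y).symm
      have h2 := hUrat _ ⟨_, h1⟩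
      show m.left.base w ∈ U
      rw [← hq t0]
      exact h2
    have hz : z ∈ closure (closedPoints (AlgGrpLib.Generated.Pow (Gen.dbl X) n).left) := by
      rw [closure_closedPoints]; trivial
    exact closure_minimal key (hU.preimage m.left.continuous) hz
  -- every point of `U` lies under a padded word
  let M : ℕ := (Finset.univ.sup fun a : F => (la a).length) + 1
  have hUw : ∀ g ∈ U, ∃ (T : Over (Spec (CommRingCat.of k))) (p : T.left) (x : Fin M → (T ⟶ X)) (ε : Fin M → Bool),
      ((List.ofFn fun j : Fin M => if ε j then x j ≫ f else (x j ≫ f)⁻¹).prod : T ⟶ G).left.base p = g := by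
    intro g hg
    obtain ⟨a, ha, _, ⟨z, rfl⟩, rfl⟩ := Set.mem_iUnion₂.1 hg
    obtain ⟨x, hx⟩ := hH ⟨z, rfl⟩
    let T : Over (Spec (CommRingCat.of k)) := Over.mk (pullback.fst h.left f.left ≫ H.hom)
    let pH : T ⟶ H := Over.homMk (pullback.fst h.left f.left) rfl
    let pX : T ⟶ X := Over.homMk (pullback.snd h.left f.left) (by
      show _ = pullback.fst h.left f.left ≫ H.hom
      rw [← Over.w f, ← pullback.condition_assoc, Over.w h])
    have hp : pX ≫ f = pH ≫ h := Over.OverMorphism.ext pullback.condition.symm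
    obtain ⟨t, ht, -⟩ := Scheme.Pullback.exists_preimage_pullback (f := h.left) (g := f.left) z x hx.symm
    let L : List (Bool × (T ⟶ X)) := List.replicate (M - 1 - (la ⟨a, ha⟩).length) (true, toUnit T ≫ x₀) ++
      (la ⟨a, ha⟩).map (fun p => (p.1, toUnit T ≫ p.2)) ++ [(true, pX)]
    have hlen : L.length = M := by
      have : (la ⟨a, ha⟩).length ≤ Finset.univ.sup fun a : F => (la a).length :=
        Finset.le_sup (f := fun a : F => (la a).length) (Finset.mem_univ _)
      simp only [L, M, List.length_append, List.length_replicate, List.length_map, List.length_cons, List.length_nil]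
      omega
    have hval : wprod f L = (pH ≫ h) ≫ τ a := by
      have h1 : ∀ n, wprod f (List.replicate n (true, toUnit T ≫ x₀)) = 1 := by
        intro n
        induction n with
        | zero => rfl
        | succ n ih =>
          rw [List.replicate_succ, wprod_cons, ih, if_pos rfl, Category.assoc, hx₀, MonObj.comp_one, _root_.mul_one]
      rw [wprod_append, wprod_append, wprod_comp, h1, hla, _root_.one_mul, hτc]
      congr 1
      simp [wprod, hp]
    obtain ⟨x', ε', he⟩ := hword L t M hlen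
    refine ⟨T, t, x', ε', he.trans ?_⟩
    rw [hval]
    show (τ a).left.base (h.left.base (pH.left.base t)) = _
    rw [show pH.left.base t = z from ht]
  have hwΓ : ∀ {m : ℕ} {g : G.left}, (∃ (T : Over (Spec (CommRingCat.of k))) (p : T.left) (x : Fin m → (T ⟶ X)) (ε : Fin m → Bool),
      ((List.ofFn fun j : Fin m => if ε j then x j ≫ f else (x j ≫ f)⁻¹).prod : T ⟶ G).left.base p = g) →
      g ∈ Set.range i.left.base := by
    rintro m g ⟨T, p, x, ε, rfl⟩
    obtain ⟨fΓ, hfΓ⟩ := hf
    let y : Fin m → (T ⟶ Γ) := fun j => if ε j then x j ≫ fΓ else (x j ≫ fΓ)⁻¹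
    refine ⟨((List.ofFn y).prod).left.base p, ?_⟩
    have e : (List.ofFn y).prod ≫ i = (List.ofFn fun j : Fin m => if ε j then x j ≫ f else (x j ≫ f)⁻¹).prod := by
      have := map_list_prod (MonoidHom.mk' (fun q : T ⟶ Γ => q ≫ i) fun a b => MonObj.mul_comp a b i) (List.ofFn y)
      rw [MonoidHom.mk'_apply] at this
      rw [this, List.map_ofFn]
      congr 2
      funext j
      simp only [y, Function.comp_apply, MonoidHom.mk'_apply]
      split_ifs <;> simp [GrpObj.inv_comp, hfΓ]
    exact congrArg (fun q => q.left.base p) e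
  exact ⟨⟨M, Set.Subset.antisymm (fun g hg => hUw g (hsub hg)) fun g hg => hwΓ hg⟩,
    F, Set.Subset.antisymm hsub fun g hg => hwΓ (hUw g hg)⟩

end Groth.Agent.SGA3Word26.FinIndex
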