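import Groth.Agent.SGA3Word26.Commutator
import Groth.Agent.SGA3Word26.Words

/-! Commutator words of bounded length exhaust the closure of all commutator words. -/

set_option autoImplicit false
set_option linter.style.haveILetI false
set_option backward.isDefEq.respectTransparency.types false

universe u

open CategoryTheory CategoryTheory.Limits MonoidalCategory CartesianMonoidalCategory MonObj GrpObj AlgebraicGeometry
open scoped CategoryTheory.Obj commutatorElement

noncomputable section

namespace Groth.Agent.SGA3Word26.Comm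

open Bounded

variable (k : Type u) [Field k] [IsAlgClosed k]

/-- A closed subgroup whose points are products of values, containing the values on the irreducible
sets through a point with value one. -/
theorem exists_closed_words_bound {G X : Over (Spec (CommRingCat.of k))} [GrpObj G] [LocallyOfFiniteType G.hom]
    [LocallyOfFiniteType X.hom] [QuasiCompact X.hom] (f : X ⟶ G) :
    ∃ (H : Over (Spec (CommRingCat.of k))) (_ : GrpObj H) (i : H ⟶ G), IsMonHom i ∧ IsClosedImmersion i.left ∧
      (∀ h : 𝟙_ (Over (Spec (CommRingCat.of k))) ⟶ H,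
        h ≫ i ∈ Subgroup.closure (Set.range fun x : 𝟙_ (Over (Spec (CommRingCat.of k))) ⟶ X => x ≫ f)) ∧
      (∃ (Z : Over (Spec (CommRingCat.of k))) (big : List (Bool × (Z ⟶ X))),
        Set.range i.left.base ⊆ Set.range (wprod f big).left.base) ∧
      ∀ S : Set X.left, IsIrreducible S → ∀ x b : 𝟙_ (Over (Spec (CommRingCat.of k))) ⟶ X,
        x.left.base (IsLocalRing.closedPoint k) ∈ S → b.left.base (IsLocalRing.closedPoint k) ∈ S → b ≫ f = 1 →
          ∃ q, q ≫ i = x ≫ f := by
  haveI : CompactSpace ↥X.left := QuasiCompact.compactSpace_of_compactSpace X.hom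
  haveI : IsLocallyNoetherian X.left := LocallyOfFiniteType.isLocallyNoetherian X.hom
  haveI : IsNoetherian X.left := {}
  haveI : Subsingleton ↥(𝟙_ (Over (Spec (CommRingCat.of k)))).left := inferInstanceAs (Subsingleton (PrimeSpectrum k))
  have hfin : (irreducibleComponents X.left).Finite :=
    TopologicalSpace.NoetherianSpace.finite_irreducibleComponents
  obtain ⟨Y, y₀, l, hYi, hYr, hYt, hYq, hy₀, hY⟩ := exists_source f hfin.toFinset.toList (fun C hC => by
    rw [Finset.mem_toList, Set.Finite.mem_toFinset] at hC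
    exact ⟨hC.1, isClosed_of_mem_irreducibleComponents C hC⟩)
  haveI := FBaseLib.geometricallyIrreducible_of_isAlgClosed Y.hom
  let Z : Over (Spec (CommRingCat.of k)) := Y ⊗ Y
  haveI : IrreducibleSpace Z.left := AlgGrpLib.OpenOrbit.irreducibleSpace_tensor Y Y
  haveI : GeometricallyReduced Z.hom := FBaseLib.geometricallyReduced_pullback Y.hom Y.hom
  haveI : LocallyOfFiniteType Z.hom := inferInstanceAs (LocallyOfFiniteType (pullback.fst Y.hom Y.hom ≫ Y.hom))
  haveI : QuasiCompact Z.hom := inferInstanceAs (QuasiCompact (pullback.fst Y.hom Y.hom ≫ Y.hom))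
  let ψ := wprod f l
  let φ : Z ⟶ G := (fst Y Y ≫ ψ) * (snd Y Y ≫ ψ)⁻¹
  have hinv : Set.range (φ ≫ ι[G]).left.base ⊆ Set.range φ.left.base := by
    rintro _ ⟨z, rfl⟩
    refine ⟨(lift (snd Y Y) (fst Y Y) : Z ⟶ Z).left.base z, ?_⟩
    have e : (lift (snd Y Y) (fst Y Y) : Z ⟶ Z) ≫ φ = φ ≫ ι[G] := by
      rw [← Hom.inv_def, MonObj.comp_mul, GrpObj.comp_inv, lift_fst_assoc, lift_snd_assoc, _root_.mul_inv_rev,
        _root_.inv_inv]
    exact congrArg (fun q => q.left.base z) e
  obtain ⟨H, gH, i, hi, hci, -, -, ⟨φ', hφ'⟩, M, p, hp, hps, hpl⟩ :=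
    AlgGrpLib.Generated.exists_generated_stab φ hinv (lift y₀ y₀) (by
      rw [MonObj.comp_mul, GrpObj.comp_inv, lift_fst_assoc, lift_snd_assoc, hy₀, inv_one, _root_.mul_one])
  haveI := hi
  refine ⟨H, gH, i, hi, hci, fun h => ?_, ?_, fun S hS x b hx hb hb1 => ?_⟩
  · obtain ⟨v, rfl⟩ := hpl h
    rw [Category.assoc, hp]
    refine (Subgroup.closure_le _).2 ?_ (AlgGrpLib.Generated.powProd_mem_closure φ M v)
    have hψ : ∀ r : 𝟙_ (Over (Spec (CommRingCat.of k))) ⟶ Y, r ≫ ψ ∈
        Subgroup.closure (Set.range fun x : 𝟙_ (Over (Spec (CommRingCat.of k))) ⟶ X => x ≫ f) := fun r => by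
      rw [← wprod_comp f r l]
      refine list_prod_mem fun y hy => ?_
      obtain ⟨⟨e, a⟩, -, rfl⟩ := List.mem_map.1 hy
      cases e
      · exact inv_mem (Subgroup.subset_closure ⟨a, rfl⟩)
      · exact Subgroup.subset_closure ⟨a, rfl⟩
    rintro _ ⟨z, rfl⟩
    show z ≫ φ ∈ _
    rw [MonObj.comp_mul, GrpObj.comp_inv, ← Category.assoc, ← Category.assoc]
    exact mul_mem (hψ _) (inv_mem (hψ _))
  · let lZ : List (Bool × (Z ⟶ X)) := l.map (fun p => (p.1, fst Y Y ≫ p.2)) ++
      ((l.map fun p => (p.1, snd Y Y ≫ p.2)).map fun p => (!p.1, p.2)).reverse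
    have hlZ : wprod f lZ = φ := by rw [wprod_append, wprod_inv, wprod_comp, wprod_comp]
    obtain ⟨lp, hlp⟩ := AlgGrpLib.Generated.exists_list φ M
    have hbig : ∀ L : List (AlgGrpLib.Generated.Pow Z M ⟶ Z),
        wprod f (L.flatMap fun e => lZ.map fun p => (p.1, e ≫ p.2)) = (L.map fun e => e ≫ φ).prod := by
      intro L
      induction L with
      | nil => rfl
      | cons e L ih => rw [List.flatMap_cons, wprod_append, wprod_comp, hlZ, ih, List.map_cons, List.prod_cons]
    refine ⟨AlgGrpLib.Generated.Pow Z M, lp.flatMap fun e => lZ.map fun p => (p.1, e ≫ p.2), ?_⟩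
    rw [hbig lp, hlp, ← hp]
    rintro _ ⟨h, rfl⟩
    obtain ⟨t, rfl⟩ := p.left.surjective h
    exact ⟨t, rfl⟩
  · obtain ⟨C, hC, hSC⟩ : ∃ C ∈ irreducibleComponents X.left, S ⊆ C := by
      obtain ⟨m, h1, h2⟩ := exists_preirreducible _ hS.isPreirreducible
      exact ⟨m, ⟨⟨hS.nonempty.mono h2.1, h1⟩, fun Z hZ hle => (h2.2 Z hZ.isPreirreducible hle).le⟩, h2.1⟩
    have hr : ∀ y : 𝟙_ (Over (Spec (CommRingCat.of k))) ⟶ X, y.left.base (IsLocalRing.closedPoint k) ∈ S →
        Set.range y.left.base ⊆ C := by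
      rintro y hy _ ⟨t, rfl⟩
      rw [Subsingleton.elim t (IsLocalRing.closedPoint k)]
      exact hSC hy
    obtain ⟨r, hr'⟩ := hY C (by rw [Finset.mem_toList, Set.Finite.mem_toFinset]; exact hC) x b (hr x hx) (hr b hb)
    refine ⟨lift r y₀ ≫ φ', ?_⟩
    rw [Category.assoc, hφ', MonObj.comp_mul, GrpObj.comp_inv, lift_fst_assoc, lift_snd_assoc, hy₀, inv_one,
      _root_.mul_one, hr', hb1, inv_one, _root_.mul_one]

/-- The commutator morphism. -/
def cMap {S : Scheme.{u}} {G A B : Over S} [GrpObj G] (a : A ⟶ G) (b : B ⟶ G) : A ⊗ B ⟶ G :=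
  ((fst A B) ≫ a) * ((snd A B) ≫ b) * ((fst A B) ≫ a)⁻¹ * ((snd A B) ≫ b)⁻¹

/-- The points under words of bounded length. -/
def wordsUpTo {S : Scheme.{u}} {G X : Over S} [GrpObj G] (f : X ⟶ G) (N : ℕ) : Set G.left :=
  ⋃ l ∈ {l : List Bool | l.length ≤ N}, Set.range (wMap f l).left.base

theorem mem_wordsUpTo {S : Scheme.{u}} {G X T : Over S} [GrpObj G] (f : X ⟶ G) (L : List (Bool × (T ⟶ X))) {N : ℕ}
    (hN : L.length ≤ N) (p : T.left) : (wprod f L).left.base p ∈ wordsUpTo f N := by
  obtain ⟨x, ε, hx⟩ := exists_fin f L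
  obtain ⟨l, hl, hm⟩ := (mem_words_iff f L.length _).1 ⟨T, p, x, ε, by rw [hx]⟩
  exact Set.mem_biUnion (show l ∈ {l : List Bool | l.length ≤ N} from hl.trans_le hN) hm

theorem exists_bound_algClosed
    (G A B : Over (Spec (CommRingCat.of k))) [GrpObj G] [GrpObj A] [GrpObj B] [LocallyOfFiniteType G.hom]
    (a : A ⟶ G) [IsMonHom a] [IsClosedImmersion a.left] (b : B ⟶ G) [IsMonHom b] [IsClosedImmersion b.left]
    [GeometricallyReduced A.hom] [GeometricallyReduced B.hom] [QuasiCompact B.hom]
    (hcase : (AlgGrp.IsNormalHom a ∧ AlgGrp.IsNormalHom b ∧ QuasiCompact A.hom) ∨ ConnectedSpace A.left) :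
    ∃ N : ℕ, closure (⋃ l : List Bool, Set.range (wMap (cMap a b) l).left.base) ⊆ wordsUpTo (cMap a b) N := by
  classical
  let P := 𝟙_ (Over (Spec (CommRingCat.of k)))
  let t0 : (𝟙_ (Over (Spec (CommRingCat.of k)))).left := IsLocalRing.closedPoint k
  haveI : Subsingleton ↥(𝟙_ (Over (Spec (CommRingCat.of k)))).left := inferInstanceAs (Subsingleton (PrimeSpectrum k))
  haveI : LocallyOfFiniteType A.hom := by rw [← Over.w a]; infer_instance
  haveI : LocallyOfFiniteType B.hom := by rw [← Over.w b]; infer_instance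
  haveI hAq : QuasiCompact A.hom := by
    rcases hcase with ⟨-, -, h⟩ | h
    · exact h
    · refine (quasiCompact_iff_compactSpace _).mpr ⟨?_⟩
      haveI := h
      have h1 := AlgGrpLib.ConnComp.isCompact_component A
      rwa [← AlgGrpLib.ConnComp.connectedComponent_eq, PreconnectedSpace.connectedComponent_eq_univ] at h1
  let X : Over (Spec (CommRingCat.of k)) := A ⊗ B
  haveI : GeometricallyReduced X.hom := FBaseLib.geometricallyReduced_pullback A.hom B.hom
  haveI : LocallyOfFiniteType X.hom := inferInstanceAs (LocallyOfFiniteType (pullback.fst A.hom B.hom ≫ A.hom))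
  haveI : QuasiCompact X.hom := inferInstanceAs (QuasiCompact (pullback.fst A.hom B.hom ≫ A.hom))
  let c : X ⟶ G := ((fst A B) ≫ a) * ((snd A B) ≫ b) * ((fst A B) ≫ a)⁻¹ * ((snd A B) ≫ b)⁻¹
  let M := (ptHom k a).range
  let N := (ptHom k b).range
  set W : Subgroup (P ⟶ G) := ⁅M, N⁆ with hW
  have hc : ∀ (x : P ⟶ A) (y : P ⟶ B), lift x y ≫ c = ⁅x ≫ a, y ≫ b⁆ := fun x y => by
    simp [c, MonObj.comp_mul, GrpObj.comp_inv, commutatorElement_def]
  have hcW : ∀ z : P ⟶ X, z ≫ c ∈ W := fun z => by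
    have e : lift (z ≫ fst A B) (z ≫ snd A B) = z := by rw [← comp_lift, lift_fst_snd, Category.comp_id]
    rw [← e, hc]
    exact Subgroup.commutator_mem_commutator ⟨_, rfl⟩ ⟨_, rfl⟩
  let M₀ := (neutral k A).map (ptHom k a)
  let N₀ := (neutral k B).map (ptHom k b)
  let K' : Subgroup (P ⟶ G) := ⁅M₀, N⁆ ⊔ ⁅M, N₀⁆
  obtain ⟨H, gH, iH, hiH, hciH, hHW, hbig, hHirr⟩ := exists_closed_words_bound k c
  haveI := hiH
  haveI := hciH
  have hKH : K' ≤ (ptHom k iH).range := by
    refine sup_le (Subgroup.commutator_le.2 ?_) (Subgroup.commutator_le.2 ?_)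
    · rintro _ ⟨x, hx, rfl⟩ _ ⟨y, rfl⟩
      let σ : A ⟶ X := lift (𝟙 A) (toUnit A ≫ y)
      have hS := (isIrreducible_irreducibleComponent (x := AlgGrpLib.ConnComp.e₀ A)).image σ.left.base
        σ.left.continuous.continuousOn
      have hpt : ∀ w : P ⟶ A, w ≫ σ = lift w y := fun w => by
        rw [comp_lift, Category.comp_id, ← Category.assoc, toUnit_unique (w ≫ toUnit A) (𝟙 _), Category.id_comp]
      obtain ⟨q, hq⟩ := hHirr _ hS (x ≫ σ) ((1 : P ⟶ A) ≫ σ) ⟨_, hx, rfl⟩
        ⟨_, (e₀_eq k (A := A)).symm ▸ mem_irreducibleComponent, rfl⟩ (by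
          rw [hpt, hc, MonObj.one_comp, commutatorElement_one_left])
      refine ⟨q, hq.trans ?_⟩
      rw [hpt]
      exact hc x y
    · rintro _ ⟨x, rfl⟩ _ ⟨y, hy, rfl⟩
      let σ : B ⟶ X := lift (toUnit B ≫ x) (𝟙 B)
      have hS := (isIrreducible_irreducibleComponent (x := AlgGrpLib.ConnComp.e₀ B)).image σ.left.base
        σ.left.continuous.continuousOn
      have hpt : ∀ w : P ⟶ B, w ≫ σ = lift x w := fun w => by
        rw [comp_lift, Category.comp_id, ← Category.assoc, toUnit_unique (w ≫ toUnit B) (𝟙 _), Category.id_comp]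
      obtain ⟨q, hq⟩ := hHirr _ hS (y ≫ σ) ((1 : P ⟶ B) ≫ σ) ⟨_, hy, rfl⟩
        ⟨_, (e₀_eq k (A := B)).symm ▸ mem_irreducibleComponent, rfl⟩ (by
          rw [hpt, hc, MonObj.one_comp, commutatorElement_one_right])
      refine ⟨q, hq.trans ?_⟩
      rw [hpt]
      exact hc x y
  -- finitely many cosets
  obtain ⟨F, hFW, hF⟩ : ∃ F : Finset (P ⟶ G), (∀ g ∈ F, g ∈ W) ∧ ∀ g ∈ W, ∃ r ∈ F, r⁻¹ * g ∈ K' := by
    rcases hcase with ⟨hna, hnb, -⟩ | hA
    · have hfinM : ∀ {D : Over (Spec (CommRingCat.of k))} [GrpObj D] [LocallyOfFiniteType D.hom] [QuasiCompact D.hom],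
          (neutral k D).index ≠ 0 := by
        intro D _ _ _
        haveI : CompactSpace ↥D.left := QuasiCompact.compactSpace_of_compactSpace D.hom
        haveI : IsLocallyNoetherian D.left := LocallyOfFiniteType.isLocallyNoetherian D.hom
        haveI : IsNoetherian D.left := {}
        haveI : Finite (irreducibleComponents D.left) :=
          TopologicalSpace.NoetherianSpace.finite_irreducibleComponents.to_subtype
        let q : ((P ⟶ D) ⧸ neutral k D) → irreducibleComponents D.left := fun g =>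
          ⟨irreducibleComponent (g.out.left.base t0), irreducibleComponent_mem_irreducibleComponents _⟩
        have hq : Function.Injective q := by
          intro g g' h
          have h' : irreducibleComponent (g.out.left.base t0) = irreducibleComponent (g'.out.left.base t0) :=
            congrArg Subtype.val h
          rw [← g.out_eq', ← g'.out_eq', QuotientGroup.eq]
          let L : D ⟶ D := (toUnit D ≫ g.out⁻¹) * 𝟙 D
          have hL : ∀ w : P ⟶ D, w ≫ L = g.out⁻¹ * w := fun w => by
            rw [MonObj.comp_mul, ← Category.assoc, toUnit_unique (w ≫ toUnit D) (𝟙 _), Category.id_comp, Category.comp_id]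
          refine subset_component k (isIrreducible_irreducibleComponent.isPreirreducible.isPreconnected.image
            L.left.base L.left.continuous.continuousOn) ⟨g.out.left.base t0, mem_irreducibleComponent, ?_⟩
            ⟨g'.out.left.base t0, h' ▸ mem_irreducibleComponent, ?_⟩
          · rw [← e₀_eq k]
            exact congrArg (fun q => q.left.base t0) ((hL g.out).trans (inv_mul_cancel _))
          · exact congrArg (fun q => q.left.base t0) (hL g'.out)
        haveI : Finite ((P ⟶ D) ⧸ neutral k D) := Finite.of_injective q hq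
        exact Nat.card_pos.ne'
      have hnorm : ∀ {D : Over (Spec (CommRingCat.of k))} [GrpObj D] (d : D ⟶ G) [IsMonHom d] [IsClosedImmersion d.left],
          AlgGrp.IsNormalHom d → (ptHom k d).range.Normal ∧ ((neutral k D).map (ptHom k d)).Normal := by
        intro D _ d _ _ hd
        haveI : Mono d := Over.mono_of_mono_left d
        refine ⟨⟨?_⟩, ⟨?_⟩⟩
        · rintro _ ⟨x, rfl⟩ g
          obtain ⟨x', hx'⟩ := hd _ g x
          exact ⟨x', hx'.symm⟩
        · rintro _ ⟨x, hx, rfl⟩ g
          obtain ⟨σ, hσ⟩ := hd D (toUnit D ≫ g) (𝟙 D)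
          have hσw : ∀ w : P ⟶ D, (w ≫ σ) ≫ d = g * (w ≫ d) * g⁻¹ := fun w => by
            rw [Category.assoc, ← hσ]
            simp only [MonObj.comp_mul, GrpObj.comp_inv, ← Category.assoc, toUnit_unique (w ≫ toUnit D) (𝟙 _),
              Category.id_comp, Category.comp_id]
          refine ⟨x ≫ σ, subset_component k (isIrreducible_irreducibleComponent.isPreirreducible.isPreconnected.image
            σ.left.base σ.left.continuous.continuousOn) ⟨_, mem_irreducibleComponent, ?_⟩ ⟨_, hx, rfl⟩, hσw x⟩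
          have e : (1 : P ⟶ D) ≫ σ = 1 := by
            rw [← cancel_mono d, hσw, MonObj.one_comp, _root_.mul_one, mul_inv_cancel]
          rw [← e₀_eq k]
          exact congrArg (fun q => q.left.base t0) e
      obtain ⟨hMn, hM₀n⟩ := hnorm a hna
      obtain ⟨hNn, hN₀n⟩ := hnorm b hnb
      haveI : M.Normal := hMn
      haveI : N.Normal := hNn
      haveI : M₀.Normal := hM₀n
      haveI : N₀.Normal := hN₀n
      haveI : K'.Normal := inferInstanceAs ((⁅M₀, N⁆ ⊔ ⁅M, N₀⁆ : Subgroup (P ⟶ G)).Normal)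
      let π := QuotientGroup.mk' K'
      haveI : (M.map π).Normal := Subgroup.Normal.map inferInstance π (QuotientGroup.mk'_surjective K')
      haveI : (N.map π).Normal := Subgroup.Normal.map inferInstance π (QuotientGroup.mk'_surjective K')
      have hidx : ∀ {D : Over (Spec (CommRingCat.of k))} [GrpObj D] [LocallyOfFiniteType D.hom] [QuasiCompact D.hom]
          (d : D ⟶ G) [IsMonHom d],
          (((neutral k D).map (ptHom k d)).map π).relIndex ((ptHom k d).range.map π) ≠ 0 := by
        intro D _ _ _ d _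
        rw [Subgroup.map_map, ← MonoidHom.range_comp, MonoidHom.range_eq_map]
        rw [Subgroup.relIndex_map_map, top_sup_eq, Subgroup.relIndex_top_right]
        intro h
        apply hfinM (D := D)
        exact zero_dvd_iff.1 (h ▸ Subgroup.index_dvd_of_le le_sup_left)
      have hcomm : ∀ {u v : P ⟶ G}, ⁅u, v⁆ ∈ K' → π u * π v = π v * π u := fun {u v} h => by
        have h' : π ⁅u, v⁆ = 1 := (QuotientGroup.eq_one_iff _).2 h
        rw [map_commutatorElement, commutatorElement_eq_one_iff_mul_comm] at h'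
        exact h'
      haveI := BaerComm26.finite_commutator (M.map π) (N.map π) (M₀.map π) (N₀.map π)
        (Subgroup.map_mono (Subgroup.map_le_range _ _)) (Subgroup.map_mono (Subgroup.map_le_range _ _))
        (hidx a) (hidx b)
        (by rintro _ ⟨u, hu, rfl⟩ _ ⟨v, hv, rfl⟩
            exact hcomm (Subgroup.mem_sup_left (Subgroup.commutator_mem_commutator hu hv)))
        (by rintro _ ⟨u, hu, rfl⟩ _ ⟨v, hv, rfl⟩
            exact hcomm (Subgroup.mem_sup_right (Subgroup.commutator_mem_commutator hu hv)))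
      haveI : Finite (W.map π : Subgroup _) := by rw [hW, Subgroup.map_commutator]; infer_instance
      haveI := Fintype.ofFinite (W.map π : Subgroup _)
      choose rep hrepW hrep using fun q : (W.map π : Subgroup _) => q.2
      refine ⟨Finset.univ.image rep, ?_, fun g hg => ⟨rep ⟨π g, g, hg, rfl⟩, Finset.mem_image_of_mem _ (Finset.mem_univ _), ?_⟩⟩
      · intro g hg
        obtain ⟨q, -, rfl⟩ := Finset.mem_image.1 hg
        exact hrepW q
      · exact QuotientGroup.eq.1 (hrep ⟨π g, g, hg, rfl⟩)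
    · haveI := hA
      refine ⟨{1}, by simp, fun g hg => ⟨1, Finset.mem_singleton_self 1, ?_⟩⟩
      rw [inv_one, _root_.one_mul]
      have hM₀ : M₀ = M := by
        show (neutral k A).map (ptHom k a) = (ptHom k a).range
        rw [MonoidHom.range_eq_map]
        congr 1
        refine eq_top_iff.2 fun x _ => ?_
        show x.left.base t0 ∈ irreducibleComponent (AlgGrpLib.ConnComp.e₀ A)
        rw [← AlgGrpLib.ConnComp.connectedComponent_eq, PreconnectedSpace.connectedComponent_eq_univ]
        trivial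
      exact (le_sup_left : ⁅M₀, N⁆ ≤ K') (hM₀.symm ▸ hg)
  let τ : (P ⟶ G) → (G ⟶ G) := fun r => (toUnit G ≫ r) * 𝟙 G
  have hτc : ∀ r (g : P ⟶ G), g ≫ τ r = r * g := fun r g => by
    rw [MonObj.comp_mul, ← Category.assoc, toUnit_unique (g ≫ toUnit G) (𝟙 _), Category.id_comp, Category.comp_id]
  have hτinv : ∀ r : P ⟶ G, τ r ≫ τ r⁻¹ = 𝟙 G := fun r => by
    simp [τ, MonObj.comp_mul, GrpObj.comp_inv, toUnit_unique _ (toUnit G)]
  let U : Set G.left := ⋃ r ∈ F, (τ r).left.base '' Set.range iH.left.base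
  have hU : IsClosed U := by
    refine F.finite_toSet.isClosed_biUnion fun r _ => ?_
    haveI : IsIso (τ r) := ⟨τ r⁻¹, hτinv r, by simpa using hτinv r⁻¹⟩
    haveI : IsIso (τ r).left := inferInstanceAs (IsIso ((Over.forget _).map (τ r)))
    exact (τ r).left.homeomorph.isClosedMap _ iH.left.isClosedEmbedding.isClosed_range
  have hWU : ∀ g ∈ W, g.left.base t0 ∈ U := by
    intro g hg
    obtain ⟨r, hr, hrg⟩ := hF g hg
    obtain ⟨q, hq⟩ := hKH hrg
    refine Set.mem_biUnion hr ⟨_, ⟨q.left.base t0, rfl⟩, ?_⟩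
    have e : (q ≫ iH) ≫ τ r = g := by
      rw [hτc, show q ≫ iH = r⁻¹ * g from hq, mul_inv_cancel_left]
    exact congrArg (fun q => q.left.base t0) e
  obtain ⟨Z, big, hbig⟩ := hbig
  have hlist : ∀ g ∈ Subgroup.closure (Set.range fun x : P ⟶ X => x ≫ c),
      ∃ L : List (Bool × (P ⟶ X)), wprod c L = g := by
    intro g hg
    induction hg using Subgroup.closure_induction with
    | mem g hg => obtain ⟨z, rfl⟩ := hg; exact ⟨[(true, z)], by simp [wprod]⟩
    | one => exact ⟨[], rfl⟩
    | mul x y _ _ hx hy =>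
      obtain ⟨L, rfl⟩ := hx
      obtain ⟨L', rfl⟩ := hy
      exact ⟨L ++ L', wprod_append _ _ _⟩
    | inv x _ hx =>
      obtain ⟨L, rfl⟩ := hx
      exact ⟨_, wprod_inv _ _⟩
  have hWc : W ≤ Subgroup.closure (Set.range fun x : P ⟶ X => x ≫ c) := by
    refine Subgroup.commutator_le.2 ?_
    rintro _ ⟨x, rfl⟩ _ ⟨y, rfl⟩
    exact Subgroup.subset_closure ⟨lift x y, hc x y⟩
  choose la hla using fun r : F => hlist r.1 (hWc (hFW r.1 r.2))
  refine ⟨(Finset.univ.sup fun r : F => (la r).length) + big.length, fun g hg => ?_⟩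
  have hgU : g ∈ U := by
    refine closure_minimal (Set.iUnion_subset fun l => ?_) hU hg
    rintro _ ⟨z, rfl⟩
    haveI := SGA3Word26.lft_wObj X l
    haveI : JacobsonSpace (wObj X l).left := LocallyOfFiniteType.jacobsonSpace (wObj X l).hom
    have key : closedPoints (wObj X l).left ⊆ (wMap c l).left.base ⁻¹' U := by
      intro w hw
      obtain ⟨q, hq⟩ := exists_point hw
      obtain ⟨x, hx⟩ := exists_proj c l
      have e : q ≫ wMap c l = wprod c (List.ofFn fun j => (l.get j, q ≫ x j)) := by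
        rw [← hx, show (List.ofFn fun j => (l.get j, q ≫ x j)) = (List.ofFn fun j => (l.get j, x j)).map fun p => (p.1, q ≫ p.2) by
          rw [List.map_ofFn]; rfl, wprod_comp, wprod, List.map_ofFn]
        rfl
      have h2 : q ≫ wMap c l ∈ W := by
        rw [e, wprod]
        refine list_prod_mem fun y hy => ?_
        obtain ⟨⟨ε, v⟩, -, rfl⟩ := List.mem_map.1 hy
        cases ε
        · exact inv_mem (hcW v)
        · exact hcW v
      show (wMap c l).left.base w ∈ U
      rw [← hq t0]
      exact hWU _ h2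
    have hz : z ∈ closure (closedPoints (wObj X l).left) := by
      rw [closure_closedPoints]; trivial
    exact closure_minimal key (hU.preimage (wMap c l).left.continuous) hz
  obtain ⟨r, hr, _, ⟨w, rfl⟩, rfl⟩ := Set.mem_iUnion₂.1 hgU
  obtain ⟨t, ht⟩ := hbig ⟨w, rfl⟩
  rw [← ht]
  let L : List (Bool × (Z ⟶ X)) := (la ⟨r, hr⟩).map (fun p => (p.1, toUnit Z ≫ p.2)) ++ big
  have hL : wprod c L = wprod c big ≫ τ r := by
    rw [wprod_append, wprod_comp, hla, MonObj.comp_mul, ← Category.assoc, toUnit_unique (wprod c big ≫ toUnit G) (toUnit Z),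
      Category.comp_id]
  show (wprod c big ≫ τ r).left.base t ∈ _
  rw [← hL]
  refine mem_wordsUpTo c L ?_ t
  simp only [L, List.length_append, List.length_map]
  exact Nat.add_le_add_right (Finset.le_sup (f := fun r : F => (la r).length) (Finset.mem_univ _)) _

end Groth.Agent.SGA3Word26.Comm
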